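import Cfsg.Agent.Presentations.Carmichael

/-!
# Elements of order three whose products in pairs are involutions

These are the relations of Carmichael for the alternating group.
-/

set_option autoImplicit false

namespace Cfsg.Lib.AltPres

variable {G : Type*} [Group G]

/-- Two elements of order dividing three whose product is an involution. -/
structure Pair (a b : G) : Prop where
  left : a * a * a = 1
  right : b * b * b = 1
  prod : a * b * (a * b) = 1

variable {a b c d : G}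

theorem inv_sq (h : a * a * a = 1) : a⁻¹ = a * a := inv_eq_of_mul_eq_one_left h

theorem sq_inv (h : a * a * a = 1) : a⁻¹ * a⁻¹ = a := by rw [← mul_inv_rev, ← inv_sq h, inv_inv]

theorem Pair.symm (h : Pair a b) : Pair b a := by
  refine ⟨h.right, h.left, ?_⟩
  calc b * a * (b * a) = a⁻¹ * (a * b * (a * b)) * a := by group
    _ = 1 := by rw [h.prod]; group

theorem Pair.inv (h : Pair a b) : Pair a⁻¹ b⁻¹ := by
  refine ⟨?_, ?_, ?_⟩
  · rw [show a⁻¹ * a⁻¹ * a⁻¹ = (a * a * a)⁻¹ by group, h.left, inv_one]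
  · rw [show b⁻¹ * b⁻¹ * b⁻¹ = (b * b * b)⁻¹ by group, h.right, inv_one]
  · rw [show a⁻¹ * b⁻¹ * (a⁻¹ * b⁻¹) = (b * a * (b * a))⁻¹ by group, h.symm.prod, inv_one]

theorem Pair.conj (h : Pair a b) (g : G) : Pair (g * a * g⁻¹) (g * b * g⁻¹) := by
  refine ⟨?_, ?_, ?_⟩
  · rw [show g * a * g⁻¹ * (g * a * g⁻¹) * (g * a * g⁻¹) = g * (a * a * a) * g⁻¹ by group, h.left]; group
  · rw [show g * b * g⁻¹ * (g * b * g⁻¹) * (g * b * g⁻¹) = g * (b * b * b) * g⁻¹ by group, h.right]; group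
  · rw [show g * a * g⁻¹ * (g * b * g⁻¹) * (g * a * g⁻¹ * (g * b * g⁻¹)) = g * (a * b * (a * b)) * g⁻¹ by group,
      h.prod]
    group

theorem Pair.sandwich (h : Pair a b) : a * b * a = b⁻¹ :=
  eq_inv_of_mul_eq_one_left (by rw [← h.prod]; group)

theorem Pair.inv_mul_inv (h : Pair a b) : a⁻¹ * b⁻¹ = b * a := by
  rw [← mul_inv_rev]
  exact inv_eq_of_mul_eq_one_left h.symm.prod

/-- The involution attached to two neighbours. -/
def dd (a b : G) : G := a⁻¹ * b * a⁻¹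

theorem dd_inv_eq (a b : G) : (dd a b)⁻¹ = dd a⁻¹ b⁻¹ := by rw [dd, dd]; group

theorem Pair.dd_sq (h : Pair a b) : dd a b * dd a b = 1 :=
  calc dd a b * dd a b = a⁻¹ * (b * (a⁻¹ * a⁻¹) * b) * a⁻¹ := by rw [dd]; group
    _ = (a * a * a)⁻¹ := by rw [sq_inv h.left, h.symm.sandwich]; group
    _ = 1 := by rw [h.left, inv_one]

theorem Pair.dd_inv (h : Pair a b) : (dd a b)⁻¹ = dd a b := inv_eq_of_mul_eq_one_left h.dd_sq

theorem Pair.dd_swap (h : Pair a b) : dd a b * a⁻¹ * dd a b = b := by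
  calc dd a b * a⁻¹ * dd a b = a⁻¹ * (b * (a * a * a)⁻¹ * b) * a⁻¹ := by rw [dd]; group
    _ = a⁻¹ * b⁻¹ * a⁻¹ := by
        rw [h.left, inv_one, mul_one, show b * b = b⁻¹ from (inv_sq h.right).symm]
    _ = _ := by rw [h.inv_mul_inv]; group

theorem cube_div (h : Pair a b) : b * a⁻¹ * (b * a⁻¹) * (b * a⁻¹) = 1 := by
  have e : b * a⁻¹ = b⁻¹ * a * b := by
    rw [← h.symm.sandwich, inv_sq h.right]; group
  rw [e, show b⁻¹ * a * b * (b⁻¹ * a * b) * (b⁻¹ * a * b) = b⁻¹ * (a * a * a) * b by group, h.left]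
  group

theorem mid_invert (hca : Pair c a) (hcb : Pair c b) (hab : Pair a b) : c * dd a b * (c * dd a b) = 1 := by
  have e1 : a⁻¹ * c * a⁻¹ = c⁻¹ * a * c⁻¹ := by
    have h1 := hca.inv.sandwich
    have h2 := hca.symm.inv.sandwich
    rw [inv_inv] at h1 h2
    calc a⁻¹ * c * a⁻¹ = a⁻¹ * (a⁻¹ * c⁻¹ * a⁻¹) * a⁻¹ := by rw [h2]
      _ = (a⁻¹ * a⁻¹) * c⁻¹ * (a⁻¹ * a⁻¹) := by group
      _ = a * c⁻¹ * a := by rw [sq_inv hca.right]
      _ = (c⁻¹ * a⁻¹ * c⁻¹) * c⁻¹ * (c⁻¹ * a⁻¹ * c⁻¹) := by rw [h1]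
      _ = c⁻¹ * (a⁻¹ * (c * c * c)⁻¹ * a⁻¹) * c⁻¹ := by group
      _ = c⁻¹ * a * c⁻¹ := by rw [hca.left, inv_one, mul_one, sq_inv hca.right]
  calc c * dd a b * (c * dd a b) = c * a⁻¹ * b * (a⁻¹ * c * a⁻¹) * b * a⁻¹ := by rw [dd]; group
    _ = c * a⁻¹ * (b * c⁻¹) * a * (c⁻¹ * b) * a⁻¹ := by rw [e1]; group
    _ = c * a⁻¹ * (b⁻¹ * c * b) * a * (b * c * b⁻¹) * a⁻¹ := by
        rw [show b * c⁻¹ = b⁻¹ * c * b by rw [← hcb.symm.sandwich, inv_sq hcb.right]; group,
          show c⁻¹ * b = b * c * b⁻¹ by rw [← hcb.symm.sandwich, inv_sq hcb.right]; group]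
    _ = c * (a⁻¹ * b⁻¹) * c * (b * a * b) * c * (b⁻¹ * a⁻¹) := by group
    _ = c * (b * a) * c * a⁻¹ * c * (a * b) := by
        rw [hab.inv_mul_inv, hab.symm.sandwich, hab.symm.inv_mul_inv]
    _ = c * b * (a * c * a⁻¹ * c * a) * b := by group
    _ = c * b * (a * c * a * (a * c * a)) * b := by
        rw [inv_sq hca.right]; group
    _ = c * b * (c⁻¹ * c⁻¹) * b := by rw [hca.symm.sandwich]
    _ = 1 := by rw [sq_inv hca.left, mul_assoc (c * b), hcb.prod]

theorem Pair.dd_inverts (hca : Pair c a) (hcb : Pair c b) (hab : Pair a b) : dd a b * c * dd a b = c⁻¹ := by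
  rw [eq_inv_iff_mul_eq_one]
  calc dd a b * c * dd a b * c = c⁻¹ * (c * dd a b * (c * dd a b)) * c := by group
    _ = 1 := by rw [mid_invert hca hcb hab]; group

theorem braid_cube (hac : Pair a c) (hab : Pair a b) (hbc : Pair b c) :
    dd a b * dd b c * (dd a b * dd b c) * (dd a b * dd b c) = 1 := by
  have e : dd a b * dd b c = b * (a⁻¹ * c) * b⁻¹ := by
    calc dd a b * dd b c = a⁻¹ * b * (a⁻¹ * b⁻¹) * c * b⁻¹ := by rw [dd, dd]; group
      _ = a⁻¹ * (b * b) * a * c * b⁻¹ := by rw [hab.inv_mul_inv]; group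
      _ = a⁻¹ * b⁻¹ * a * c * b⁻¹ := by rw [← inv_sq hab.right]
      _ = b * (a * a) * c * b⁻¹ := by rw [hab.inv_mul_inv]; group
      _ = _ := by rw [← inv_sq hab.left]; group
  have h3 : a⁻¹ * c * (a⁻¹ * c) * (a⁻¹ * c) = 1 := by
    calc a⁻¹ * c * (a⁻¹ * c) * (a⁻¹ * c) = a⁻¹ * (c * a⁻¹ * (c * a⁻¹) * (c * a⁻¹)) * a := by group
      _ = 1 := by rw [cube_div hac]; group
  rw [e, show b * (a⁻¹ * c) * b⁻¹ * (b * (a⁻¹ * c) * b⁻¹) * (b * (a⁻¹ * c) * b⁻¹) =
    b * (a⁻¹ * c * (a⁻¹ * c) * (a⁻¹ * c)) * b⁻¹ by group, h3]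
  group

theorem far_sq (hab : Pair a b) (hac : Pair a c) (hbc : Pair b c) (hbd : Pair b d) (had : Pair a d)
    (hcd : Pair c d) : dd a b * dd c d * (dd a b * dd c d) = 1 := by
  calc dd a b * dd c d * (dd a b * dd c d)
      = a⁻¹ * b * (a⁻¹ * c⁻¹) * d * (c⁻¹ * a⁻¹) * b * (a⁻¹ * c⁻¹) * d * c⁻¹ := by rw [dd, dd]; group
    _ = a⁻¹ * b * (c * a) * d * (a * c) * b * (c * a) * d * c⁻¹ := by
        rw [hac.inv_mul_inv, hac.symm.inv_mul_inv]
    _ = a⁻¹ * b * c * (a * d * a) * (c * b * c) * a * d * c⁻¹ := by group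
    _ = a⁻¹ * b * c * (d⁻¹ * b⁻¹) * a * d * c⁻¹ := by rw [had.sandwich, hbc.symm.sandwich]; group
    _ = a⁻¹ * (b * c * b) * (d * a * d) * c⁻¹ := by rw [hbd.symm.inv_mul_inv]; group
    _ = (c * a * (c * a))⁻¹ := by rw [hbc.sandwich, had.symm.sandwich]; group
    _ = 1 := by rw [hac.symm.prod, inv_one]

/-- The bound of Carmichael. -/
theorem carmichael (x : ℕ → G) (N : ℕ) (hc : ∀ i < N, x i * x i * x i = 1)
    (hp : ∀ i j, i < N → j < N → i ≠ j → x i * x j * (x i * x j) = 1) :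
    Finite (Subgroup.closure (x '' Set.Iio N)) ∧
      2 * Nat.card (Subgroup.closure (x '' Set.Iio N)) ≤ (N + 2).factorial := by
  have P : ∀ i j, i < N → j < N → i ≠ j → Pair (x i) (x j) := fun i j hi hj h =>
    ⟨hc i hi, hc j hj, hp i j hi hj h⟩
  let g : ℕ → G := fun i => if i = 0 then x 0 else dd (x (i - 1)) (x i)
  have hg : ∀ i, g (i + 1) = dd (x i) (x (i + 1)) := fun i => by simp [g]
  have hg0 : g 0 = x 0 := rfl
  have hrel : Cfsg.Lib.Presentations.Carmichael.Rel g N := by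
    refine ⟨fun h0 => ?_, fun i h1 h2 => ?_, fun i h1 => ?_, fun i j h1 h2 => ?_⟩
    · rw [hg0, pow_succ, pow_two]; exact hc 0 h0
    · obtain ⟨i, rfl⟩ : ∃ k, i = k + 1 := ⟨i - 1, by omega⟩
      rw [hg]; exact (P i (i + 1) (by omega) h2 (by omega)).dd_sq
    · rw [pow_succ, pow_two]
      rcases i with _ | i
      · rw [hg0, hg, show x 0 * dd (x 0) (x (0 + 1)) = x 1 * (x 0)⁻¹ by rw [dd]; group]
        exact cube_div (P 0 1 (by omega) h1 (by omega))
      · rw [hg, hg]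
        exact braid_cube (P i (i + 1 + 1) (by omega) h1 (by omega)) (P i (i + 1) (by omega) (by omega) (by omega))
          (P (i + 1) (i + 1 + 1) (by omega) h1 (by omega))
    · obtain ⟨j, rfl⟩ : ∃ k, j = k + 1 := ⟨j - 1, by omega⟩
      rcases i with _ | i
      · rw [hg0, hg]
        exact mid_invert (P 0 j (by omega) (by omega) (by omega)) (P 0 (j + 1) (by omega) h2 (by omega))
          (P j (j + 1) (by omega) h2 (by omega))
      · rw [hg, hg]
        exact far_sq (P i (i + 1) (by omega) (by omega) (by omega)) (P i j (by omega) (by omega) (by omega))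
          (P (i + 1) j (by omega) (by omega) (by omega)) (P (i + 1) (j + 1) (by omega) h2 (by omega))
          (P i (j + 1) (by omega) h2 (by omega)) (P j (j + 1) (by omega) h2 (by omega))
  obtain ⟨hfin, hcard⟩ := Cfsg.Lib.Presentations.Carmichael.finite_and_card_le g N hrel
  have hle : Subgroup.closure (x '' Set.Iio N) ≤ Subgroup.closure (g '' Set.Iio N) := by
    rw [Subgroup.closure_le]
    have : ∀ i < N, x i ∈ Subgroup.closure (g '' Set.Iio N) := by
      intro i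
      induction i with
      | zero => exact fun h => Subgroup.subset_closure ⟨0, h, rfl⟩
      | succ i ih =>
        intro h
        have h1 := ih (by omega)
        have h2 : g (i + 1) ∈ Subgroup.closure (g '' Set.Iio N) := Subgroup.subset_closure ⟨i + 1, h, rfl⟩
        rw [show x (i + 1) = x i * g (i + 1) * x i by rw [hg, dd]; group]
        exact mul_mem (mul_mem h1 h2) h1
    rintro _ ⟨i, hi, rfl⟩
    exact this i hi
  haveI := hfin
  exact ⟨Finite.of_injective _ (Subgroup.inclusion_injective hle),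
    (Nat.mul_le_mul_left 2 (Nat.card_le_card_of_injective _ (Subgroup.inclusion_injective hle))).trans hcard⟩

end Cfsg.Lib.AltPres
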