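import Cfsg.Agent.Known.AltPres.Model

/-!
# Four relations for the alternating group on `p + 2` letters
-/

set_option autoImplicit false

namespace Cfsg.Lib.AltPres

open Equiv

theorem exists_even_primitive (p : ℕ) [Fact p.Prime] (hp : 3 ≤ p) :
    ∃ g : ℕ, Even g ∧ 2 ≤ g ∧ (g : ZMod p) ≠ 0 ∧ ∀ x : ZMod p, x ≠ 0 → ∃ k : ℕ, (g : ZMod p) ^ k = x := by
  obtain ⟨u, hu⟩ := IsCyclic.exists_generator (α := (ZMod p)ˣ)
  have hgen : ∀ x : ZMod p, x ≠ 0 → ∃ k : ℕ, (u : ZMod p) ^ k = x := fun x hx => by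
    obtain ⟨k, hk⟩ := mem_powers_iff_mem_zpowers.2 (hu (Units.mk0 x hx))
    exact ⟨k, by simpa using congrArg Units.val hk⟩
  have hodd : p % 2 = 1 := by
    rcases (Fact.out : p.Prime).eq_two_or_odd with h | h
    · omega
    · exact h
  have h0 : 1 ≤ (u : ZMod p).val := Nat.one_le_iff_ne_zero.2 fun h => u.ne_zero ((ZMod.val_eq_zero _).1 h)
  by_cases hev : Even (u : ZMod p).val
  · exact ⟨(u : ZMod p).val, hev, by rcases hev with ⟨r, hr⟩; omega, by rw [ZMod.natCast_zmod_val]; exact u.ne_zero,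
      fun x hx => by simpa [ZMod.natCast_zmod_val] using hgen x hx⟩
  · exact ⟨(u : ZMod p).val + p, by rw [Nat.even_add, Nat.even_iff, Nat.even_iff, hodd]; simpa [Nat.even_iff] using hev,
      by omega, by simp [ZMod.natCast_zmod_val, u.ne_zero],
      fun x hx => by simpa [ZMod.natCast_zmod_val] using hgen x hx⟩

theorem exists_mult (p g : ℕ) [Fact p.Prime] [NeZero p] (hp : 3 ≤ p) (hg0 : (g : ZMod p) ≠ 0)
    (hg : ∀ x : ZMod p, x ≠ 0 → ∃ k : ℕ, (g : ZMod p) ^ k = x) :
    ∃ m : Perm (Fin p), (∀ i : ℕ, m (Fin.ofNat p i) = Fin.ofNat p (g * i)) ∧ Perm.sign m = -1 := by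
  classical
  let m' : Perm (ZMod p) := Equiv.mulLeft₀ (g : ZMod p) hg0
  let e : ZMod p ≃ Fin p :=
    { toFun := fun x => Fin.ofNat p x.val
      invFun := fun i => (i.val : ZMod p)
      left_inv := fun x => by simp [Fin.ofNat, Nat.mod_eq_of_lt (ZMod.val_lt x), ZMod.natCast_zmod_val]
      right_inv := fun i => Fin.ext (by simp [Fin.ofNat, ZMod.val_natCast, Nat.mod_eq_of_lt i.isLt]) }
  refine ⟨e.permCongr m', fun i => ?_, ?_⟩
  · show Fin.ofNat p ((g : ZMod p) * ((Fin.ofNat p i).val : ZMod p)).val = _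
    apply Fin.ext
    simp [Fin.ofNat, ← Nat.cast_mul, ZMod.val_natCast, Nat.mul_mod]
  have hg1 : (g : ZMod p) ≠ 1 := fun h => by
    obtain ⟨k, hk⟩ := hg (-1) (by simp)
    rw [h, one_pow] at hk
    have h2 : ((2 : ℕ) : ZMod p) = 0 := by push_cast; linear_combination hk
    have := Nat.le_of_dvd (by norm_num) ((ZMod.natCast_eq_zero_iff 2 p).1 h2)
    omega
  rw [Perm.sign_permCongr]
  have hsupp : m'.support = Finset.univ.erase 0 := by
    ext x
    simp only [Perm.mem_support, Finset.mem_erase, Finset.mem_univ, and_true]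
    constructor
    · rintro h rfl; exact h (mul_zero _)
    · intro hx h
      exact hg1 (mul_right_cancel₀ hx ((show (g : ZMod p) * x = x from h).trans (one_mul x).symm))
  have hcyc : m'.IsCycle := by
    refine ⟨1, fun h => hg1 ((mul_one _).symm.trans h), fun y hy => ?_⟩
    have hy0 : y ≠ 0 := by rintro rfl; exact hy (mul_zero _)
    obtain ⟨k, hk⟩ := hg y hy0
    refine ⟨k, ?_⟩
    rw [zpow_natCast]
    have : ∀ j : ℕ, (m' ^ j) 1 = (g : ZMod p) ^ j := by
      intro j
      induction j with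
      | zero => simp
      | succ j ih => rw [pow_succ', Perm.mul_apply, ih, pow_succ']; rfl
    rw [this, hk]
  rw [hcyc.sign, hsupp, Finset.card_erase_of_mem (Finset.mem_univ _), Finset.card_univ, ZMod.card]
  have hodd : p % 2 = 1 := by
    rcases (Fact.out : p.Prime).eq_two_or_odd with h | h
    · omega
    · exact h
  rw [Even.neg_one_pow (Nat.even_iff.2 (by omega))]

variable (p : ℕ) [Fact p.Prime] [NeZero p]

/-- The three-cycle generator. -/
def z0 : alternatingGroup (Fin p ⊕ Bool) := ⟨cyc (Fin.ofNat p 0), cyc_mem _⟩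

/-- The long cycle generator. -/
def a0 (hp : 3 ≤ p) : alternatingGroup (Fin p ⊕ Bool) := ⟨mv (finRotate p) false, by
  rw [Perm.mem_alternatingGroup, sign_rot]
  have hodd : p % 2 = 1 := by
    rcases (Fact.out : p.Prime).eq_two_or_odd with h | h
    · omega
    · exact h
  rw [Even.neg_one_pow (Nat.even_iff.2 (by omega))]; simp⟩

theorem a0_conj (hp : 3 ≤ p) (i : ℕ) :
    ((a0 p hp ^ i * z0 p * (a0 p hp ^ i)⁻¹ : alternatingGroup (Fin p ⊕ Bool)) : Perm (Fin p ⊕ Bool)) =
      cyc (Fin.ofNat p i) := by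
  induction i with
  | zero => simp [z0]
  | succ i ih =>
    rw [pow_succ']
    rw [show a0 p hp * a0 p hp ^ i * z0 p * (a0 p hp * a0 p hp ^ i)⁻¹ =
      a0 p hp * (a0 p hp ^ i * z0 p * (a0 p hp ^ i)⁻¹) * (a0 p hp)⁻¹ by group, Subgroup.coe_mul, Subgroup.coe_mul,
      Subgroup.coe_inv, ih]
    show mv (finRotate p) false * cyc (Fin.ofNat p i) * (mv (finRotate p) false)⁻¹ = _
    rw [mv_conj, rot_apply]; rfl

theorem top_of_conj (hp : 3 ≤ p) :
    Subgroup.closure ((fun i : ℕ => a0 p hp ^ i * z0 p * (a0 p hp ^ i)⁻¹) '' Set.Iio p) = ⊤ := by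
  haveI : Nontrivial (Fin p) := Fin.nontrivial_iff_two_le.2 (by omega)
  apply Subgroup.map_injective (alternatingGroup (Fin p ⊕ Bool)).subtype_injective
  rw [MonoidHom.map_closure, ← MonoidHom.range_eq_map, Subgroup.range_subtype]
  conv_rhs => rw [← closure_cyc]
  congr 1
  ext x
  constructor
  · rintro ⟨_, ⟨i, -, rfl⟩, rfl⟩
    exact ⟨_, (a0_conj p hp i).symm⟩
  · rintro ⟨j, rfl⟩
    refine ⟨_, ⟨j.val, j.isLt, rfl⟩, ?_⟩
    show ((a0 p hp ^ j.val * z0 p * (a0 p hp ^ j.val)⁻¹ : alternatingGroup (Fin p ⊕ Bool)) : Perm (Fin p ⊕ Bool)) = _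
    rw [a0_conj]
    congr 1
    exact Fin.ext (Nat.mod_eq_of_lt j.isLt)

/-- Four relations present the alternating group on `p + 2` letters. -/
theorem block_pres (hp : 3 ≤ p) : ∃ L : List (FreeGroup (Fin 2)), L.length ≤ 4 ∧
    (∀ r ∈ L, FreeGroup.lift ![z0 p, a0 p hp] r = 1) ∧
    ∀ (G : Type) [Group G] (f : Fin 2 → G), (∀ r ∈ L, FreeGroup.lift f r = 1) →
      ∃ Ψ : alternatingGroup (Fin p ⊕ Bool) →* G, Ψ (z0 p) = f 0 ∧ Ψ (a0 p hp) = f 1 := by
  classical
  obtain ⟨g, hgev, hg2, hg0, hgen⟩ := exists_even_primitive p hp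
  obtain ⟨m, hm, hsign⟩ := exists_mult p g hp hg0 hgen
  let b0 : alternatingGroup (Fin p ⊕ Bool) := ⟨mv m true, by
    rw [Perm.mem_alternatingGroup, sumCongr_one_sign, hsign]; rfl⟩
  let X : Subgroup (FreeGroup (Fin 2)) := Subgroup.closure
    ((fun i : ℕ => FreeGroup.of 1 ^ i * FreeGroup.of 0 * (FreeGroup.of 1 ^ i)⁻¹) '' Set.Iio p)
  obtain ⟨wb, hwbX, hwb⟩ : b0 ∈ X.map (FreeGroup.lift ![z0 p, a0 p hp]) := by
    rw [MonoidHom.map_closure, ← Set.image_comp,
      show (⇑(FreeGroup.lift ![z0 p, a0 p hp]) ∘ fun i : ℕ =>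
        FreeGroup.of 1 ^ i * FreeGroup.of 0 * (FreeGroup.of 1 ^ i)⁻¹) =
        fun i : ℕ => a0 p hp ^ i * z0 p * (a0 p hp ^ i)⁻¹ from funext fun i => by simp, top_of_conj]
    trivial
  let wz : FreeGroup (Fin 2) := FreeGroup.of 0
  let wa : FreeGroup (Fin 2) := FreeGroup.of 1
  let L : List (FreeGroup (Fin 2)) := [wa ^ p * (wz * wz * wz)⁻¹, wb * wa * wb⁻¹ * (wa ^ g)⁻¹, wb * wz * wb⁻¹ * wz,
    wz * (wa * wz * wa⁻¹) * (wz * (wa * wz * wa⁻¹))]
  have hap : a0 p hp ^ p = 1 := by
    apply Subtype.ext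
    have key : ∀ i : ℕ, (mv (finRotate p) false ^ i : Perm (Fin p ⊕ Bool)) = mv (finRotate p ^ i) false := by
      intro i
      induction i with
      | zero => ext x; rcases x with _ | _ <;> simp [mv]
      | succ i ih => rw [pow_succ, ih, mv_mul, pow_succ]; rfl
    rw [SubmonoidClass.coe_pow]
    show mv (finRotate p) false ^ p = 1
    rw [key, show finRotate p ^ p = 1 from ?_]
    · ext x; rcases x with _ | _ <;> simp [mv]
    · apply Equiv.ext
      intro i
      have : ∀ j : ℕ, (finRotate p ^ j) i = Fin.ofNat p (i.val + j) := by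
        intro j
        induction j with
        | zero => exact Fin.ext (by simp [Fin.ofNat, Nat.mod_eq_of_lt i.isLt])
        | succ j ih => rw [pow_succ', Perm.mul_apply, ih, rot_apply, add_assoc]
      rw [this]
      exact Fin.ext (by simp [Fin.ofNat, Nat.mod_eq_of_lt i.isLt])
  have hzc : z0 p * z0 p * z0 p = 1 := Subtype.ext (cyc_cube _)
  have hL : ∀ r ∈ L, FreeGroup.lift ![z0 p, a0 p hp] r = 1 := by
    simp only [L, wz, wa, List.forall_mem_cons, List.not_mem_nil, false_imp_iff, implies_true, and_true, map_mul,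
      map_inv, map_pow, FreeGroup.lift_apply_of, hwb]
    show a0 p hp ^ p * (z0 p * z0 p * z0 p)⁻¹ = 1 ∧ b0 * a0 p hp * b0⁻¹ * (a0 p hp ^ g)⁻¹ = 1 ∧
      b0 * z0 p * b0⁻¹ * z0 p = 1 ∧
      z0 p * (a0 p hp * z0 p * (a0 p hp)⁻¹) * (z0 p * (a0 p hp * z0 p * (a0 p hp)⁻¹)) = 1
    refine ⟨by rw [hap, hzc]; group, ?_, ?_, ?_⟩
    · rw [mul_inv_eq_one]
      apply Subtype.ext
      rw [SubmonoidClass.coe_pow]
      show mv m true * mv (finRotate p) false * (mv m true)⁻¹ = mv (finRotate p) false ^ g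
      rw [mul_inv_eq_iff_eq_mul, show mv (finRotate p) false ^ g = mv (finRotate p ^ g) false from ?_]
      · rw [mv_mul, mv_mul]
        congr 1
        apply Equiv.ext
        intro i
        have hi : i = Fin.ofNat p i.val := Fin.ext (by simp [Fin.ofNat, Nat.mod_eq_of_lt i.isLt])
        have hrot : ∀ j n : ℕ, (finRotate p ^ j) (Fin.ofNat p n) = Fin.ofNat p (n + j) := by
          intro j n
          induction j with
          | zero => rfl
          | succ j ih => rw [pow_succ', Perm.mul_apply, ih, rot_apply, add_assoc]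
        rw [Perm.mul_apply, Perm.mul_apply, hi, rot_apply, hm, hm, hrot]
        congr 1
      · have : ∀ k : ℕ, (mv (finRotate p) false ^ k : Perm (Fin p ⊕ Bool)) = mv (finRotate p ^ k) false := by
          intro k
          induction k with
          | zero => ext x; rcases x with _ | _ <;> simp [mv]
          | succ k ih => rw [pow_succ, ih, mv_mul, pow_succ]; rfl
        exact this g
    · apply Subtype.ext
      show mv m true * cyc (Fin.ofNat p 0) * (mv m true)⁻¹ * cyc (Fin.ofNat p 0) = 1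
      rw [mv_conj, hm, mul_zero]
      exact inv_mul_cancel _
    · apply Subtype.ext
      have := a0_conj p hp 1
      rw [pow_one] at this
      rw [Subgroup.coe_mul, Subgroup.coe_mul, this, Subgroup.coe_one]
      exact (cyc_pair (fun h => by
        have := congrArg Fin.val h
        simp [Fin.ofNat, Nat.mod_eq_of_lt (show 1 < p by omega)] at this)).prod
  refine ⟨L, by simp [L], hL, fun G _ f hf => ?_⟩
  let rels : Set (FreeGroup (Fin 2)) := {r | r ∈ L}
  let B := PresentedGroup rels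
  let z : B := PresentedGroup.of 0
  let a : B := PresentedGroup.of 1
  have hlift : ∀ w, PresentedGroup.mk rels w = FreeGroup.lift ![z, a] w := fun w => by
    rw [show FreeGroup.lift ![z, a] = PresentedGroup.mk rels from FreeGroup.ext_hom _ _ fun i => by
      fin_cases i <;> rw [FreeGroup.lift_apply_of] <;> rfl]
  have hr : ∀ r ∈ L, FreeGroup.lift ![z, a] r = 1 := fun r h => by
    rw [← hlift]; exact PresentedGroup.one_of_mem (rels := rels) h
  simp only [L, wz, wa, List.forall_mem_cons, List.not_mem_nil, false_imp_iff, implies_true, and_true, map_mul,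
    map_inv, map_pow, FreeGroup.lift_apply_of] at hr
  set b : B := FreeGroup.lift ![z, a] wb with hb
  change a ^ p * (z * z * z)⁻¹ = 1 ∧ b * a * b⁻¹ * (a ^ g)⁻¹ = 1 ∧ b * z * b⁻¹ * z = 1 ∧
    z * (a * z * a⁻¹) * (z * (a * z * a⁻¹)) = 1 at hr
  obtain ⟨h1, h2, h3, h4⟩ := hr
  rw [mul_inv_eq_one] at h1 h2
  have h3' : b * z * b⁻¹ = z⁻¹ := eq_inv_of_mul_eq_one_left h3
  have hcl : Subgroup.closure ({z, a} : Set B) = ⊤ := by
    rw [eq_top_iff, ← PresentedGroup.closure_range_of rels]
    refine Subgroup.closure_mono ?_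
    rintro _ ⟨i, rfl⟩
    fin_cases i <;> simp [z, a]
  -- the common value is central and trivial
  set c := a ^ p with hc
  have hcz : Commute c z := by
    rw [h1]; show _ = _
    group
  have hcb : Commute c b := by
    have : ∀ w : FreeGroup (Fin 2), Commute c (FreeGroup.lift ![z, a] w) := by
      intro w
      induction w using FreeGroup.induction_on with
      | C1 => simp
      | of i =>
        fin_cases i <;> simp only [FreeGroup.lift_apply_of]
        · exact hcz
        · exact (Commute.refl a).pow_left p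
      | inv_of i hi => rw [map_inv]; exact hi.inv_right
      | mul x y hx hy => rw [map_mul]; exact hx.mul_right hy
    exact this wb
  have hcg : c ^ g = c := by
    calc c ^ g = (a ^ g) ^ p := by rw [hc, ← pow_mul, ← pow_mul, mul_comm]
      _ = b * c * b⁻¹ := by rw [← h2, hc, conj_pow]
      _ = c := by rw [← hcb.eq, mul_inv_cancel_right]
  have hc2 : c * c = 1 := by
    have : b * c * b⁻¹ = c⁻¹ := by
      rw [h1, show b * (z * z * z) * b⁻¹ = (b * z * b⁻¹) * (b * z * b⁻¹) * (b * z * b⁻¹) by group, h3']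
      group
    rw [← hcb.eq, mul_inv_cancel_right] at this
    exact mul_eq_one_iff_eq_inv.2 this
  have hc1 : c = 1 := by
    obtain ⟨r, hr⟩ := hgev
    rw [← hcg, hr, ← two_mul, pow_mul, pow_two, hc2, one_pow]
  have hz3 : z * z * z = 1 := by rw [← h1, hc1]
  let x : ℕ → B := fun i => a ^ i * z * (a ^ i)⁻¹
  have hx3 : ∀ i, x i * x i * x i = 1 := fun i => by
    rw [show x i * x i * x i = a ^ i * (z * z * z) * (a ^ i)⁻¹ by simp only [x]; group, hz3]; group
  have hbx : ∀ i, b * x i * b⁻¹ = (x (g * i))⁻¹ := fun i => by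
    show b * (a ^ i * z * (a ^ i)⁻¹) * b⁻¹ = _
    rw [show b * (a ^ i * z * (a ^ i)⁻¹) * b⁻¹ = (b * a * b⁻¹) ^ i * (b * z * b⁻¹) * ((b * a * b⁻¹) ^ i)⁻¹ by
      rw [conj_pow]; group, h2, h3', ← pow_mul]
    simp only [x]; group
  have hxmod : ∀ i, x i = x (i % p) := fun i => by
    have : a ^ i = a ^ (i % p) := by
      conv_lhs => rw [← Nat.mod_add_div i p, pow_add, pow_mul, ← hc, hc1, one_pow, mul_one]
    simp only [x, this]
  have hpair : ∀ k : ℕ, Pair (x 0) (x (g ^ k)) := by
    intro k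
    induction k with
    | zero => exact ⟨hx3 0, hx3 _, by rw [pow_zero]; simpa [x] using h4⟩
    | succ k ih =>
      have := (ih.conj b).inv
      rwa [hbx, hbx, inv_inv, inv_inv, mul_zero, ← pow_succ'] at this
  have hpd : ∀ d, 1 ≤ d → d < p → Pair (x 0) (x d) := fun d h1 h2 => by
    obtain ⟨k, hk⟩ := hgen (d : ZMod p) fun h => by
      have := Nat.le_of_dvd (by omega) ((ZMod.natCast_eq_zero_iff d p).1 h)
      omega
    rw [← Nat.cast_pow, ZMod.natCast_eq_natCast_iff'] at hk
    rw [hxmod d, ← hk, ← hxmod]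
    exact hpair k
  obtain ⟨hfin, hcard⟩ := carmichael x p (fun i _ => hx3 i) fun i j hi hj hij => by
    rcases Nat.lt_or_ge i j with h | h
    · have := (hpd (j - i) (by omega) (by omega)).conj (a ^ i)
      have e : a ^ i * x (j - i) * (a ^ i)⁻¹ = x j := by
        simp only [x]; rw [← Nat.add_sub_cancel' h.le, pow_add]; group; rw [Nat.add_sub_cancel' h.le]
      rw [e, show a ^ i * x 0 * (a ^ i)⁻¹ = x i by simp [x]] at this
      exact this.prod
    · have := (hpd (i - j) (by omega) (by omega)).conj (a ^ j)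
      have e : a ^ j * x (i - j) * (a ^ j)⁻¹ = x i := by
        simp only [x]; rw [← Nat.add_sub_cancel' h, pow_add]; group; rw [Nat.add_sub_cancel' h]
      rw [e, show a ^ j * x 0 * (a ^ j)⁻¹ = x j by simp [x]] at this
      exact this.symm.prod
  set K := Subgroup.closure (x '' Set.Iio p) with hK
  have hxK : ∀ i, x i ∈ K := fun i => by
    rw [hxmod]; exact Subgroup.subset_closure ⟨i % p, Nat.mod_lt _ (by omega), rfl⟩
  have hbK : b ∈ K := by
    have : ∀ w ∈ X, FreeGroup.lift ![z, a] w ∈ K := by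
      intro w hw
      induction hw using Subgroup.closure_induction with
      | mem y hy => obtain ⟨i, hi, rfl⟩ := hy; simpa using hxK i
      | one => simpa using one_mem K
      | mul u v _ _ hu hv => rw [map_mul]; exact mul_mem hu hv
      | inv u _ hu => rw [map_inv]; exact inv_mem hu
    exact this wb hwbX
  have hna : ∀ y ∈ K, a * y * a⁻¹ ∈ K := by
    intro y hy
    induction hy using Subgroup.closure_induction with
    | mem y hy =>
      obtain ⟨i, -, rfl⟩ := hy
      rw [show a * x i * a⁻¹ = x (i + 1) by simp only [x]; rw [pow_succ']; group]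
      exact hxK _
    | one => simpa using one_mem K
    | mul u v _ _ hu hv => simpa using mul_mem hu hv
    | inv u _ hu => rw [show a * u⁻¹ * a⁻¹ = (a * u * a⁻¹)⁻¹ by group]; exact inv_mem hu
  have haK : a ∈ K := by
    have h' : a ^ (g - 1) ∈ K := by
      have : a ^ (g - 1) = b * (a * b⁻¹ * a⁻¹) := by
        rw [show b * (a * b⁻¹ * a⁻¹) = b * a * b⁻¹ * a⁻¹ by group, h2, eq_mul_inv_iff_mul_eq, ← pow_succ,
          Nat.sub_add_cancel (by omega)]
      rw [this]
      exact mul_mem hbK (hna _ (inv_mem hbK))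
    have hcop : Nat.Coprime p (g - 1) := ((Fact.out : p.Prime).coprime_iff_not_dvd).2 fun h => by
      rw [← ZMod.natCast_eq_zero_iff, Nat.cast_sub (by omega), Nat.cast_one, sub_eq_zero] at h
      obtain ⟨k, hk⟩ := hgen (-1) (by simp)
      rw [h, one_pow] at hk
      have h2' : ((2 : ℕ) : ZMod p) = 0 := by push_cast; linear_combination hk
      have := Nat.le_of_dvd (by norm_num) ((ZMod.natCast_eq_zero_iff 2 p).1 h2')
      omega
    obtain ⟨u, v, huv⟩ : ∃ u v : ℤ, (p : ℤ) * u + ((g - 1 : ℕ) : ℤ) * v = 1 :=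
      ⟨_, _, by rw [← Int.gcd_eq_gcd_ab, Int.gcd_natCast_natCast, hcop.gcd_eq_one, Nat.cast_one]⟩
    have : a = (a ^ p) ^ u * (a ^ (g - 1)) ^ v := by
      rw [← zpow_natCast a p, ← zpow_natCast a (g - 1), ← zpow_mul, ← zpow_mul, ← zpow_add, huv, zpow_one]
    rw [this, ← hc, hc1, one_zpow, one_mul]
    exact zpow_mem h' _
  have htop : K = ⊤ := by
    rw [eq_top_iff, ← hcl, Subgroup.closure_le]
    rintro y (rfl | rfl)
    · simpa [x] using hxK 0
    · exact haK
  rw [htop] at hfin hcard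
  haveI : Finite B := Finite.of_equiv _ Subgroup.topEquiv.toEquiv
  rw [Subgroup.card_top] at hcard
  let π : B →* alternatingGroup (Fin p ⊕ Bool) := PresentedGroup.toGroup (fun r hr => hL r hr)
  have hπ0 : π z = z0 p := PresentedGroup.toGroup.of _
  have hπ1 : π a = a0 p hp := PresentedGroup.toGroup.of _
  have hsurj : Function.Surjective π := by
    rw [← MonoidHom.range_eq_top, eq_top_iff, ← top_of_conj p hp, Subgroup.closure_le]
    rintro _ ⟨i, -, rfl⟩
    exact ⟨a ^ i * z * (a ^ i)⁻¹, by simp [hπ0, hπ1]⟩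
  have hcardA : (p + 2).factorial ≤ 2 * Nat.card (alternatingGroup (Fin p ⊕ Bool)) := by
    have := Cfsg.Lib.AltPres.two_mul_card_alt (Fin p ⊕ Bool) (by simp)
    rw [Nat.card_sum, Nat.card_fin, Nat.card_eq_fintype_card (α := Bool), Fintype.card_bool] at this
    exact this.ge
  have hbij : Function.Bijective π := (Nat.bijective_iff_surjective_and_card π).2
    ⟨hsurj, le_antisymm (by omega) (Nat.card_le_card_of_surjective π hsurj)⟩
  let τ : B →* G := PresentedGroup.toGroup (f := f) (fun r hr => hf r hr)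
  refine ⟨τ.comp (MulEquiv.ofBijective π hbij).symm.toMonoidHom, ?_, ?_⟩
  · show τ ((MulEquiv.ofBijective π hbij).symm (z0 p)) = f 0
    rw [show z0 p = (MulEquiv.ofBijective π hbij) z from hπ0.symm, MulEquiv.symm_apply_apply]
    exact PresentedGroup.toGroup.of _
  · show τ ((MulEquiv.ofBijective π hbij).symm (a0 p hp)) = f 1
    rw [show a0 p hp = (MulEquiv.ofBijective π hbij) a from hπ1.symm, MulEquiv.symm_apply_apply]
    exact PresentedGroup.toGroup.of _

end Cfsg.Lib.AltPres
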