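import Cfsg.Agent.Known.AltPres.Block

/-!
# The block inside a longer line, and the two words for the shift
-/

set_option autoImplicit false

namespace Cfsg.Lib.AltPres

open Equiv

variable {p N : ℕ} [Fact p.Prime] [NeZero p] [NeZero N]

/-- The inclusion of points. -/
def pts (h : p ≤ N) : Fin p ⊕ Bool ↪ Fin N ⊕ Bool :=
  ⟨Sum.map (Fin.castLE h) id, Function.Injective.sumMap (Fin.castLE_injective h) Function.injective_id⟩

/-- The inclusion of permutations. -/
noncomputable def incl (h : p ≤ N) : alternatingGroup (Fin p ⊕ Bool) →* Perm (Fin N ⊕ Bool) :=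
  (Perm.viaEmbeddingHom (pts h)).comp (alternatingGroup (Fin p ⊕ Bool)).subtype

theorem via_swap {α β : Type*} [DecidableEq α] [DecidableEq β] (e : α ↪ β) (a b : α) :
    Perm.viaEmbedding (swap a b) e = swap (e a) (e b) := by
  refine Equiv.ext fun y => ?_
  by_cases hy : y ∈ Set.range e
  · obtain ⟨x, rfl⟩ := hy
    rw [Perm.viaEmbedding_apply, e.injective.swap_apply]
  · rw [Perm.viaEmbedding_apply_of_notMem _ _ _ hy, swap_apply_of_ne_of_ne]
    · rintro rfl; exact hy ⟨a, rfl⟩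
    · rintro rfl; exact hy ⟨b, rfl⟩

theorem incl_cyc (h : p ≤ N) (i : Fin p) :
    incl h ⟨cyc i, cyc_mem i⟩ = cyc (Fin.castLE h i) := by
  simp only [incl, MonoidHom.coe_comp, Function.comp_apply, Subgroup.coe_subtype, cyc, map_mul,
    Perm.viaEmbeddingHom_apply, cc, via_swap]
  congr 1

theorem castLE_ofNat (h : p ≤ N) {i : ℕ} (hi : i < p) : Fin.castLE h (Fin.ofNat p i) = Fin.ofNat N i :=
  Fin.ext (by simp [Fin.ofNat, Nat.mod_eq_of_lt hi, Nat.mod_eq_of_lt (lt_of_lt_of_le hi h)])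

variable (p) in
/-- The three-cycles. -/
def c0 (hp : 3 ≤ p) (i : ℕ) : alternatingGroup (Fin p ⊕ Bool) := a0 p hp ^ i * z0 p * (a0 p hp ^ i)⁻¹

theorem c0_val (hp : 3 ≤ p) (i : ℕ) :
    (c0 p hp i : Perm (Fin p ⊕ Bool)) = cyc (Fin.ofNat p i) := a0_conj p hp i

theorem c0_zero (hp : 3 ≤ p) : c0 p hp 0 = z0 p := by simp [c0]

theorem incl_c0 (hp : 3 ≤ p) (h : p ≤ N) {i : ℕ} (hi : i < p) : incl h (c0 p hp i) = cyc (Fin.ofNat N i) := by
  rw [show c0 p hp i = ⟨cyc (Fin.ofNat p i), cyc_mem _⟩ from Subtype.ext (c0_val hp i), incl_cyc,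
    castLE_ofNat h hi]

theorem incl_mem_alt (hp : 3 ≤ p) (h : p ≤ N) (g : alternatingGroup (Fin p ⊕ Bool)) :
    incl h g ∈ alternatingGroup (Fin N ⊕ Bool) := by
  have hg : g ∈ Subgroup.closure ((fun i : ℕ => c0 p hp i) '' Set.Iio p) := by
    show g ∈ Subgroup.closure ((fun i : ℕ => a0 p hp ^ i * z0 p * (a0 p hp ^ i)⁻¹) '' Set.Iio p)
    rw [top_of_conj]; trivial
  refine (Subgroup.closure_le ((alternatingGroup (Fin N ⊕ Bool)).comap (incl h))).2 ?_ hg
  rintro _ ⟨i, hi, rfl⟩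
  show incl h (c0 p hp i) ∈ alternatingGroup (Fin N ⊕ Bool)
  rw [incl_c0 hp h hi]
  exact cyc_mem _

variable (p) in
/-- The product of the first exchanges. -/
def zeta (hp : 3 ≤ p) : ℕ → alternatingGroup (Fin p ⊕ Bool)
  | 0 => 1
  | k + 1 => zeta hp k * dd (c0 p hp k) (c0 p hp (k + 1))

theorem zeta_val (hp : 3 ≤ p) : ∀ k, k < p →
    (zeta p hp k : Perm (Fin p ⊕ Bool)) = partRot p k * cc ^ k
  | 0, _ => by simp [zeta, partRot]
  | k + 1, hk => by
    rw [zeta, Subgroup.coe_mul, zeta_val hp k (by omega), partRot, pow_succ, ← Subgroup.subtype_apply,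
      map_dd, Subgroup.subtype_apply, Subgroup.subtype_apply, c0_val, c0_val, dd_cyc]
    · have h := Cfsg.Lib.Presentations.Carmichael.swap_commute (a := (Sum.inr false : Fin p ⊕ Bool)) (b := Sum.inr true)
        (c := Sum.inl (Fin.ofNat p k)) (d := Sum.inl (Fin.ofNat p (k + 1))) (by simp) (by simp) (by simp) (by simp)
      have hc : Commute (cc ^ k) (swap (Sum.inl (Fin.ofNat p k)) (Sum.inl (Fin.ofNat p (k + 1))) : Perm (Fin p ⊕ Bool)) :=
        Commute.pow_left h k
      calc partRot p k * cc ^ k * (swap (Sum.inl (Fin.ofNat p k)) (Sum.inl (Fin.ofNat p (k + 1))) * cc)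
          = partRot p k * (cc ^ k * swap (Sum.inl (Fin.ofNat p k)) (Sum.inl (Fin.ofNat p (k + 1)))) * cc := by group
        _ = _ := by rw [hc.eq]; group
    · intro e
      have := congrArg Fin.val e
      simp [Fin.ofNat, Nat.mod_eq_of_lt hk, Nat.mod_eq_of_lt (show k < p by omega)] at this

/-- Conjugation by `zeta (p - 2)` moves the three-cycles on. -/
theorem zeta_conj (hp : 3 ≤ p) {i : ℕ} (hi : i + 2 < p) :
    c0 p hp (i + 1) = (zeta p hp (p - 2) * c0 p hp i * (zeta p hp (p - 2))⁻¹)⁻¹ := by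
  apply Subtype.ext
  rw [Subgroup.coe_inv, Subgroup.coe_mul, Subgroup.coe_mul, Subgroup.coe_inv, c0_val, c0_val, zeta_val hp _ (by omega)]
  have hodd : Odd (p - 2) := by
    rcases (Fact.out : p.Prime).eq_two_or_odd with h | h
    · omega
    · rw [Nat.odd_iff]; omega
  have hcc : (cc : Perm (Fin p ⊕ Bool)) ^ (p - 2) = cc := by
    obtain ⟨r, hr⟩ := hodd
    rw [hr, pow_succ, pow_mul, pow_two, cc_sq, one_pow, one_mul]
  obtain ⟨h1, h2⟩ := partRot_apply (N := p) (p - 2) (by omega)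
  set D : Perm (Fin p ⊕ Bool) := partRot p (p - 2) * cc with hD
  have e1 : D (Sum.inr false) = Sum.inr true := by simp [hD, cc, Perm.mul_apply, h1]
  have e2 : D (Sum.inr true) = Sum.inr false := by simp [hD, cc, Perm.mul_apply, h1]
  have e3 : D (Sum.inl (Fin.ofNat p i)) = Sum.inl (Fin.ofNat p (i + 1)) := by
    rw [hD, Perm.mul_apply, cc, swap_apply_of_ne_of_ne (by simp) (by simp), h2 i (by omega), if_pos (by omega)]
  rw [hcc, ← hD, cyc, cyc, show D * (cc * swap (Sum.inr false) (Sum.inl (Fin.ofNat p i))) * D⁻¹ =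
    (D * swap (Sum.inr false) (Sum.inr true) * D⁻¹) * (D * swap (Sum.inr false) (Sum.inl (Fin.ofNat p i)) * D⁻¹) by
      rw [cc]; group, ← swap_apply_apply, ← swap_apply_apply]
  rw [e1, e2, e3, mul_inv_rev, swap_inv, swap_inv, swap_comm (Sum.inr true) (Sum.inr false)]
  show cc * swap (Sum.inr false) (Sum.inl (Fin.ofNat p (i + 1))) = swap (Sum.inr true) (Sum.inl (Fin.ofNat p (i + 1))) * cc
  rw [← cc_swap, mul_assoc, cc_sq, mul_one]

/-- A subgroup containing the first three-cycle and the product of exchanges contains all but the last. -/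
theorem c0_mem (hp : 3 ≤ p) (S : Subgroup (alternatingGroup (Fin p ⊕ Bool))) (hz : z0 p ∈ S)
    (hζ : zeta p hp (p - 2) ∈ S) : ∀ i, i + 1 < p → c0 p hp i ∈ S := by
  intro i
  induction i with
  | zero => intro _; rwa [c0_zero]
  | succ i ih =>
    intro hi
    rw [zeta_conj hp (by omega)]
    exact inv_mem (mul_mem (mul_mem hζ (ih (by omega))) (inv_mem hζ))

theorem zeta_mem (hp : 3 ≤ p) (S : Subgroup (alternatingGroup (Fin p ⊕ Bool))) :
    ∀ k, (∀ i ≤ k, c0 p hp i ∈ S) → zeta p hp k ∈ S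
  | 0, _ => one_mem S
  | k + 1, h => mul_mem (zeta_mem hp S k fun i hi => h i (by omega))
      (mul_mem (mul_mem (inv_mem (h k (by omega))) (h (k + 1) le_rfl)) (inv_mem (h k (by omega))))

/-- The shift on the block, as an automorphism of the block. -/
def theta (hp : 3 ≤ p) (sw : Bool) : alternatingGroup (Fin p ⊕ Bool) →* alternatingGroup (Fin p ⊕ Bool) where
  toFun g := ⟨mv (finRotate p) sw * g * (mv (finRotate p) sw)⁻¹,
    Subgroup.Normal.conj_mem inferInstance _ g.2 _⟩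
  map_one' := Subtype.ext (by simp)
  map_mul' g h := Subtype.ext (by simp [mul_assoc])

theorem theta_c0 (hp : 3 ≤ p) (sw : Bool) (i : ℕ) : theta hp sw (c0 p hp i) = fl sw (c0 p hp (i + 1)) := by
  refine (alternatingGroup (Fin p ⊕ Bool)).subtype_injective ?_
  rw [map_fl]
  show mv (finRotate p) sw * (c0 p hp i : Perm (Fin p ⊕ Bool)) * (mv (finRotate p) sw)⁻¹ = fl sw (c0 p hp (i + 1) : Perm _)
  rw [c0_val, c0_val, mv_conj, rot_apply]

/-- On the relevant part, the shift of the line restricts to the shift of the block. -/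
theorem incl_theta (hp : 3 ≤ p) (h : p ≤ N) (sw : Bool) {g : alternatingGroup (Fin p ⊕ Bool)}
    (hg : g ∈ Subgroup.closure ((fun i : ℕ => c0 p hp i) '' Set.Iio (p - 1))) :
    mv (finRotate N) sw * incl h g * (mv (finRotate N) sw)⁻¹ = incl h (theta hp sw g) := by
  have := MonoidHom.eqOn_closure (f := (MulAut.conj (mv (finRotate N) sw)).toMonoidHom.comp (incl h))
    (g := (incl h).comp (theta hp sw)) ?_ hg
  · exact this
  rintro _ ⟨i, hi, rfl⟩
  simp only [Set.mem_Iio] at hi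
  show mv (finRotate N) sw * incl h (c0 p hp i) * (mv (finRotate N) sw)⁻¹ = incl h (theta hp sw (c0 p hp i))
  rw [theta_c0, map_fl, incl_c0 hp h (by omega), incl_c0 hp h (by omega), mv_conj, rot_apply]

end Cfsg.Lib.AltPres
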