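import Cfsg.Agent.Known.AltPres.Shift

/-!
# The permutations: three-cycles through two fixed extra points
-/

set_option autoImplicit false

namespace Cfsg.Lib.AltPres

open Equiv

variable {ι : Type*} [Fintype ι] [DecidableEq ι]

/-- The exchange of the two extra points. -/
def cc : Perm (ι ⊕ Bool) := swap (Sum.inr false) (Sum.inr true)

/-- The three-cycle through a point and the two extra points. -/
def cyc (i : ι) : Perm (ι ⊕ Bool) := cc * swap (Sum.inr false) (Sum.inl i)

theorem cc_sq : (cc : Perm (ι ⊕ Bool)) * cc = 1 := swap_mul_self _ _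

theorem cc_inv : (cc : Perm (ι ⊕ Bool))⁻¹ = cc := swap_inv _ _

theorem cyc_inv (i : ι) : (cyc i)⁻¹ = swap (Sum.inr false) (Sum.inl i) * cc := by
  rw [cyc, mul_inv_rev, cc_inv, swap_inv]

theorem cc_swap (i : ι) :
    cc * swap (Sum.inr false) (Sum.inl i) * cc = (swap (Sum.inr true) (Sum.inl i) : Perm (ι ⊕ Bool)) := by
  conv_lhs => arg 2; rw [← cc_inv]
  rw [← swap_apply_apply]
  simp [cc, swap_apply_of_ne_of_ne]

theorem sign_cc : Perm.sign (cc : Perm (ι ⊕ Bool)) = -1 := Perm.sign_swap (by simp)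

theorem cyc_mem (i : ι) : cyc i ∈ alternatingGroup (ι ⊕ Bool) := by
  rw [Perm.mem_alternatingGroup, cyc, map_mul, sign_cc, Perm.sign_swap (by simp)]; rfl

theorem cyc_cube (i : ι) : cyc i * cyc i * cyc i = (1 : Perm (ι ⊕ Bool)) := by
  have h := Cfsg.Lib.Presentations.Carmichael.cube_of_chain (a := (Sum.inr true : ι ⊕ Bool)) (b := Sum.inr false)
    (c := Sum.inl i) (by simp) (by simp) (by simp)
  rw [pow_succ, pow_two] at h
  rwa [cyc, cc, swap_comm (Sum.inr false) (Sum.inr true)]

theorem cyc_pair {i j : ι} (hij : i ≠ j) : Pair (cyc i : Perm (ι ⊕ Bool)) (cyc j) := by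
  refine ⟨cyc_cube i, cyc_cube j, ?_⟩
  have e : (cyc i : Perm (ι ⊕ Bool)) * cyc j = swap (Sum.inr true) (Sum.inl i) * swap (Sum.inr false) (Sum.inl j) := by
    rw [← cc_swap i, cyc, cyc]; group
  have hc : swap (Sum.inr true) (Sum.inl i) * swap (Sum.inr false) (Sum.inl j) =
      swap (Sum.inr false) (Sum.inl j) * (swap (Sum.inr true) (Sum.inl i) : Perm (ι ⊕ Bool)) :=
    Cfsg.Lib.Presentations.Carmichael.swap_commute (by simp) (by simp) (by simp) (by simp [hij])
  rw [e]
  conv_lhs => arg 1; rw [hc]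
  rw [mul_assoc, ← mul_assoc (swap (Sum.inr true) (Sum.inl i)) (swap (Sum.inr true) (Sum.inl i)), swap_mul_self,
    one_mul, swap_mul_self]

theorem dd_cyc {i j : ι} (hij : i ≠ j) :
    dd (cyc i : Perm (ι ⊕ Bool)) (cyc j) = swap (Sum.inl i) (Sum.inl j) * cc := by
  rw [dd, cyc_inv, cyc]
  calc swap (Sum.inr false) (Sum.inl i) * cc * (cc * swap (Sum.inr false) (Sum.inl j)) *
        (swap (Sum.inr false) (Sum.inl i) * cc)
      = swap (Sum.inr false) (Sum.inl i) * (cc * cc) * swap (Sum.inr false) (Sum.inl j) *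
          (swap (Sum.inr false) (Sum.inl i))⁻¹ * cc := by rw [swap_inv]; group
    _ = _ := by
      rw [cc_sq, mul_one, ← swap_apply_apply, swap_apply_left,
        swap_apply_of_ne_of_ne (by simp) (by simpa using hij.symm)]

/-- A permutation of the points, with or without the exchange. -/
def mv (π : Perm ι) (sw : Bool) : Perm (ι ⊕ Bool) :=
  Equiv.sumCongr π (if sw then swap false true else 1)

theorem mv_inl (π : Perm ι) (sw : Bool) (i : ι) : mv π sw (Sum.inl i) = Sum.inl (π i) := rfl

theorem mv_conj (π : Perm ι) (sw : Bool) (i : ι) : mv π sw * cyc i * (mv π sw)⁻¹ = fl sw (cyc (π i)) := by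
  rw [cyc, show mv π sw * (cc * swap (Sum.inr false) (Sum.inl i)) * (mv π sw)⁻¹ =
    (mv π sw * cc * (mv π sw)⁻¹) * (mv π sw * swap (Sum.inr false) (Sum.inl i) * (mv π sw)⁻¹) by group, cc,
    ← swap_apply_apply, ← swap_apply_apply]
  cases sw
  · simp [mv, fl, cyc, cc]
  · show swap (mv π true (Sum.inr false)) (mv π true (Sum.inr true)) *
      swap (mv π true (Sum.inr false)) (mv π true (Sum.inl i)) = (cyc (π i))⁻¹
    rw [cyc_inv, show mv π true (Sum.inr false) = Sum.inr true by simp [mv],
      show mv π true (Sum.inr true) = Sum.inr false by simp [mv], mv_inl, ← cc_swap (π i),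
      swap_comm (Sum.inr true) (Sum.inr false)]
    show cc * (cc * swap (Sum.inr false) (Sum.inl (π i)) * cc) = _
    rw [← mul_assoc, ← mul_assoc, cc_sq, one_mul]

theorem sumCongr_one_sign (π : Perm ι) (sw : Bool) :
    Perm.sign (mv π sw) = Perm.sign π * (if sw then -1 else 1) := by
  rw [mv, Perm.sign_sumCongr]
  cases sw <;> simp

theorem two_mul_card_alt (α : Type*) [Fintype α] [DecidableEq α] (h : 2 ≤ Fintype.card α) :
    2 * Nat.card (alternatingGroup α) = (Nat.card α).factorial := by
  haveI : Nontrivial α := Fintype.one_lt_card_iff_nontrivial.1 (by omega)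
  rw [Nat.card_eq_fintype_card, two_mul_card_alternatingGroup, Fintype.card_perm, Nat.card_eq_fintype_card]

theorem closure_cyc [Nontrivial ι] :
    Subgroup.closure (Set.range (cyc : ι → Perm (ι ⊕ Bool))) = alternatingGroup (ι ⊕ Bool) := by
  set K := Subgroup.closure (Set.range (cyc : ι → Perm (ι ⊕ Bool))) with hK
  have hle : K ≤ alternatingGroup (ι ⊕ Bool) := (Subgroup.closure_le _).2 (by rintro _ ⟨i, rfl⟩; exact cyc_mem i)
  have hc : ∀ i, (cyc i : Perm (ι ⊕ Bool)) ∈ K := fun i => Subgroup.subset_closure ⟨i, rfl⟩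
  have hd : ∀ i j : ι, i ≠ j → swap (Sum.inl i) (Sum.inl j) * cc ∈ K := fun i j h => by
    rw [← dd_cyc h]; exact mul_mem (mul_mem (inv_mem (hc i)) (hc j)) (inv_mem (hc i))
  have hnorm : ∀ x ∈ K, cc * x * cc ∈ K := by
    intro x hx
    induction hx using Subgroup.closure_induction with
    | mem y hy =>
      obtain ⟨i, rfl⟩ := hy
      rw [cyc, ← mul_assoc, cc_sq, one_mul, ← cyc_inv]
      exact inv_mem (hc i)
    | one => rw [mul_one, cc_sq]; exact one_mem K
    | mul a b _ _ ha hb =>
      rw [show cc * (a * b) * cc = (cc * a * cc) * (cc * b * cc) by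
        rw [show cc * a * cc * (cc * b * cc) = cc * a * (cc * cc) * b * cc by group, cc_sq]; group]
      exact mul_mem ha hb
    | inv a _ ha => rw [show cc * a⁻¹ * cc = (cc * a * cc)⁻¹ by rw [mul_inv_rev, mul_inv_rev, cc_inv]; group]
                    exact inv_mem ha
  have hsw : ∀ x y : ι ⊕ Bool, x ≠ y → swap x y * cc ∈ K := by
    have h1 : ∀ (i : ι) (b : Bool), swap (Sum.inr b) (Sum.inl i) * cc ∈ K := fun i b => by
      cases b
      · rw [← cyc_inv]; exact inv_mem (hc i)
      · rw [← cc_swap, mul_assoc, cc_sq, mul_one]; exact hc i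
    rintro (i | b) (j | b') hne
    · exact hd i j (fun e => hne (by rw [e]))
    · rw [swap_comm]; exact h1 i b'
    · exact h1 j b
    · have e : swap (Sum.inr b) (Sum.inr b') = (cc : Perm (ι ⊕ Bool)) := by
        cases b <;> cases b'
        · exact absurd rfl hne
        · rfl
        · exact swap_comm _ _
        · exact absurd rfl hne
      rw [e, cc_sq]; exact one_mem K
  refine le_antisymm hle fun g hg => ?_
  have key : ∀ g : Perm (ι ⊕ Bool), g ∈ K ∨ g * cc ∈ K := by
    intro g
    induction g using Equiv.Perm.swap_induction_on with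
    | one => exact Or.inl (one_mem K)
    | swap_mul f x y hne ih =>
      have h := hsw x y hne
      rcases ih with hf | hf
      · right
        rw [show swap x y * f * cc = swap x y * cc * (cc * f * cc) by
          rw [show swap x y * cc * (cc * f * cc) = swap x y * (cc * cc) * f * cc by group, cc_sq]; group]
        exact mul_mem h (hnorm f hf)
      · left
        have h2 := mul_mem h (hnorm _ hf)
        rwa [show swap x y * cc * (cc * (f * cc) * cc) = swap x y * (cc * cc) * f * (cc * cc) by group, cc_sq,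
          mul_one, mul_one] at h2
  rcases key g with h | h
  · exact h
  · exfalso
    have := Perm.mem_alternatingGroup.1 (hle h)
    rw [map_mul, Perm.mem_alternatingGroup.1 hg, sign_cc, one_mul] at this
    exact absurd this (by decide)

section Line

variable {N : ℕ} [NeZero N]

theorem rot_apply (i : ℕ) : finRotate N (Fin.ofNat N i) = Fin.ofNat N (i + 1) := by
  obtain ⟨m, rfl⟩ : ∃ m, N = m + 1 := ⟨N - 1, (Nat.succ_pred_eq_of_ne_zero (NeZero.ne N)).symm⟩
  rw [finRotate_succ_apply]
  apply Fin.ext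
  simp [Fin.val_add, Fin.ofNat, Nat.add_mod]

theorem zs_model (sw : Bool) (i : ℕ) :
    zs (mv (finRotate N) sw) (cyc (Fin.ofNat N 0)) sw i = cyc (Fin.ofNat N i) := by
  induction i with
  | zero => rw [Nat.cast_zero, zs_zero]
  | succ i ih => rw [Nat.cast_succ, zs_succ, ih, mv_conj, fl_fl, rot_apply]

theorem sd_model (sw : Bool) {i : ℕ} (hi : i + 1 < N) :
    sd (mv (finRotate N) sw) (cyc (Fin.ofNat N 0)) sw i =
      swap (Sum.inl (Fin.ofNat N i)) (Sum.inl (Fin.ofNat N (i + 1))) * cc := by
  rw [sd, ← Nat.cast_succ, zs_model, zs_model, dd_cyc]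
  intro h
  have := congrArg Fin.val h
  simp [Fin.ofNat, Nat.mod_eq_of_lt hi, Nat.mod_eq_of_lt (show i < N by omega)] at this

/-- The cycle on the first points. -/
def partRot (N : ℕ) [NeZero N] : ℕ → Perm (Fin N ⊕ Bool)
  | 0 => 1
  | k + 1 => partRot N k * swap (Sum.inl (Fin.ofNat N k)) (Sum.inl (Fin.ofNat N (k + 1)))

theorem partRot_apply : ∀ k < N, (∀ b, partRot N k (Sum.inr b) = Sum.inr b) ∧
    ∀ x < N, partRot N k (Sum.inl (Fin.ofNat N x)) =
      Sum.inl (Fin.ofNat N (if x < k then x + 1 else if x = k then 0 else x)) := by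
  intro k
  induction k with
  | zero =>
    intro _
    refine ⟨fun b => rfl, fun x _ => ?_⟩
    rcases Nat.eq_zero_or_pos x with rfl | h
    · simp [partRot]
    · rw [if_neg (by omega), if_neg (by omega)]; rfl
  | succ k ih =>
    intro hk
    obtain ⟨h1, h2⟩ := ih (by omega)
    have hne : ∀ {u v : ℕ}, u < N → v < N → u ≠ v → (Sum.inl (Fin.ofNat N u) : Fin N ⊕ Bool) ≠ Sum.inl (Fin.ofNat N v) :=
      fun hu hv h e => h (by
        have := congrArg Fin.val (Sum.inl_injective e)
        simpa [Fin.ofNat, Nat.mod_eq_of_lt hu, Nat.mod_eq_of_lt hv] using this)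
    refine ⟨fun b => by rw [partRot, Perm.mul_apply, swap_apply_of_ne_of_ne (by simp) (by simp), h1], fun x hx => ?_⟩
    rw [partRot, Perm.mul_apply]
    rcases lt_trichotomy x k with hlt | rfl | hgt
    · rw [swap_apply_of_ne_of_ne (hne hx (by omega) (by omega)) (hne hx hk (by omega)), h2 x hx, if_pos hlt,
        if_pos (by omega)]
    · rw [swap_apply_left, h2 _ hk, if_neg (by omega), if_neg (by omega), if_pos (by omega)]
    · rcases eq_or_ne x (k + 1) with rfl | hx'
      · rw [swap_apply_right, h2 _ (by omega), if_neg (by omega), if_pos rfl, if_neg (by omega), if_pos rfl]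
      · rw [swap_apply_of_ne_of_ne (hne hx (by omega) (by omega)) (hne hx hk hx'), h2 x hx, if_neg (by omega),
          if_neg (by omega), if_neg (by omega), if_neg hx']

theorem cc_commute_partRot : ∀ k < N, Commute cc (partRot N k)
  | 0, _ => Commute.one_right _
  | k + 1, hk => (cc_commute_partRot k (by omega)).mul_right
      (Cfsg.Lib.Presentations.Carmichael.swap_commute (by simp) (by simp) (by simp) (by simp))

theorem Lp_model (sw : Bool) : ∀ k < N,
    Lp (mv (finRotate N) sw) (cyc (Fin.ofNat N 0)) sw 0 k = partRot N k * cc ^ k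
  | 0, _ => by simp [Lp, partRot]
  | k + 1, hk => by
    rw [Lp, zero_add, Lp_model sw k (by omega), sd_model sw hk, partRot, pow_succ]
    have h := Cfsg.Lib.Presentations.Carmichael.swap_commute (a := (Sum.inr false : Fin N ⊕ Bool)) (b := Sum.inr true)
      (c := Sum.inl (Fin.ofNat N k)) (d := Sum.inl (Fin.ofNat N (k + 1))) (by simp) (by simp) (by simp) (by simp)
    have hc : Commute (cc ^ k) (swap (Sum.inl (Fin.ofNat N k)) (Sum.inl (Fin.ofNat N (k + 1))) : Perm (Fin N ⊕ Bool)) :=
      Commute.pow_left h k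
    calc partRot N k * cc ^ k * (swap (Sum.inl (Fin.ofNat N k)) (Sum.inl (Fin.ofNat N (k + 1))) * cc)
        = partRot N k * (cc ^ k * swap (Sum.inl (Fin.ofNat N k)) (Sum.inl (Fin.ofNat N (k + 1)))) * cc := by group
      _ = _ := by rw [hc.eq]; group

theorem Lp_model_last (sw : Bool) :
    Lp (mv (finRotate N) sw) (cyc (Fin.ofNat N 0)) sw 0 (N - 1) = mv (finRotate N) (decide (Even N)) := by
  have hN : N - 1 < N := by have := NeZero.ne N; omega
  rw [Lp_model sw _ hN]
  have hcc : (cc : Perm (Fin N ⊕ Bool)) ^ (N - 1) = if Even N then cc else 1 := by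
    have hsq : (cc : Perm (Fin N ⊕ Bool)) ^ 2 = 1 := by rw [pow_two, cc_sq]
    rw [← Nat.mod_add_div (N - 1) 2, pow_add, pow_mul, hsq, one_pow, mul_one]
    by_cases h : Even N
    · rw [if_pos h, show (N - 1) % 2 = 1 by rw [Nat.even_iff] at h; omega, pow_one]
    · rw [if_neg h, show (N - 1) % 2 = 0 by rw [Nat.even_iff] at h; omega, pow_zero]
  rw [hcc]
  obtain ⟨h1, h2⟩ := partRot_apply (N := N) _ hN
  have hpt : ∀ i : Fin N, partRot N (N - 1) (Sum.inl i) = Sum.inl (finRotate N i) := fun i => by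
    have hi : i = Fin.ofNat N i.val := Fin.ext (by simp [Fin.ofNat, Nat.mod_eq_of_lt i.isLt])
    rw [hi, h2 i.val i.isLt, rot_apply]
    by_cases hlt : i.val < N - 1
    · rw [if_pos hlt]
    · have := i.isLt
      rw [if_neg hlt, if_pos (by omega)]
      congr 1
      exact Fin.ext (by simp [Fin.ofNat, show i.val + 1 = N by omega])
  ext x
  rcases x with i | b
  · by_cases h : Even N <;> simp [h, mv, cc, Perm.mul_apply, swap_apply_of_ne_of_ne, hpt]
  · by_cases h : Even N <;> cases b <;> simp [h, mv, cc, Perm.mul_apply, h1]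

theorem mv_mul (π π' : Perm ι) (sw sw' : Bool) : mv π sw * mv π' sw' = mv (π * π') (sw != sw') := by
  ext x
  rcases x with i | b <;> cases sw <;> cases sw' <;> simp [mv] <;> cases b <;> rfl

theorem sign_rot (sw : Bool) : Perm.sign (mv (finRotate N) sw) = (-1) ^ (N - 1) * (if sw then -1 else 1) := by
  rw [sumCongr_one_sign]
  obtain ⟨m, rfl⟩ : ∃ m, N = m + 1 := ⟨N - 1, (Nat.succ_pred_eq_of_ne_zero (NeZero.ne N)).symm⟩
  rw [sign_finRotate, Nat.add_sub_cancel]

end Line

end Cfsg.Lib.AltPres
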