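import Cfsg.Agent.Known.AltPres.Embed
import Mathlib.NumberTheory.Bertrand

/-!
# Seven relations on three generators
-/

set_option autoImplicit false

namespace Cfsg.Lib.AltPres

open Equiv

theorem exists_prime_window (N : ℕ) (hN : 3 ≤ N) : ∃ p, p.Prime ∧ 3 ≤ p ∧ p ≤ N ∧ N + 2 ≤ 2 * p := by
  rcases Nat.lt_or_ge N 4 with h | h
  · exact ⟨3, Nat.prime_three, le_rfl, hN, by omega⟩
  obtain ⟨p, hp, h1, h2⟩ := Nat.exists_prime_lt_and_le_two_mul ((N + 1) / 2) (by omega)
  have hodd : p % 2 = 1 := by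
    rcases hp.eq_two_or_odd with h | h <;> omega
  exact ⟨p, hp, by omega, by omega, by omega⟩

theorem lift_map {α β : Type*} {H : Type*} [Group H] (f : β → H) (k : α → β) (w : FreeGroup α) :
    FreeGroup.lift f (FreeGroup.map k w) = FreeGroup.lift (f ∘ k) w :=
  DFunLike.congr_fun (FreeGroup.ext_hom ((FreeGroup.lift f).comp (FreeGroup.map k)) (FreeGroup.lift (f ∘ k))
    fun a => by simp) w

theorem map_lift {α : Type*} {H K : Type*} [Group H] [Group K] (φ : H →* K) (f : α → H) (w : FreeGroup α) :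
    φ (FreeGroup.lift f w) = FreeGroup.lift (φ ∘ f) w :=
  DFunLike.congr_fun (FreeGroup.ext_hom (φ.comp (FreeGroup.lift f)) (FreeGroup.lift (φ ∘ f)) fun a => by simp) w

/-- Six relations in `z`, `a`, `σ`; the last relation is `σ = W` or `σ² = W²`. -/
theorem six_rels (N p : ℕ) [Fact p.Prime] [NeZero p] [NeZero N] (hp : 3 ≤ p) (hpN : p ≤ N) (sw : Bool) :
    ∃ (L : List (FreeGroup (Fin 3))) (at' : Perm (Fin N ⊕ Bool)), L.length ≤ 6 ∧
      at' ∈ alternatingGroup (Fin N ⊕ Bool) ∧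
      (∀ r ∈ L, FreeGroup.lift ![cyc (Fin.ofNat N 0), at', mv (finRotate N) sw] r = 1) ∧
      ∀ (G : Type) [Group G] (f : Fin 3 → G), (∀ r ∈ L, FreeGroup.lift f r = 1) →
        f 0 * f 0 * f 0 = 1 ∧ (∀ d : ℕ, 1 ≤ d → d < p → Pair (f 0) (f 1 ^ d * f 0 * (f 1 ^ d)⁻¹)) ∧
        (∀ i : ℕ, i + 1 < p → f 2 * (f 1 ^ i * f 0 * (f 1 ^ i)⁻¹) * (f 2)⁻¹ =
          fl sw (f 1 ^ (i + 1) * f 0 * (f 1 ^ (i + 1))⁻¹)) ∧
        f 1 ∈ Subgroup.closure ((fun i : ℕ => f 1 ^ i * f 0 * (f 1 ^ i)⁻¹) '' Set.Iio p) := by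
  classical
  obtain ⟨L4, hlen, hL4, huniv⟩ := block_pres p hp
  have hgen : ∀ g : alternatingGroup (Fin p ⊕ Bool), ∃ w, FreeGroup.lift ![z0 p, a0 p hp] w = g := by
    intro g
    have h : (⊤ : Subgroup _) ≤ (FreeGroup.lift ![z0 p, a0 p hp]).range := by
      rw [← top_of_conj p hp, Subgroup.closure_le]
      rintro _ ⟨i, -, rfl⟩
      exact ⟨FreeGroup.of 1 ^ i * FreeGroup.of 0 * (FreeGroup.of 1 ^ i)⁻¹, by simp⟩
    exact h (Subgroup.mem_top g)
  choose wd hwd using hgen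
  let emb : Fin 2 → Fin 3 := Fin.castSucc
  let rel : alternatingGroup (Fin p ⊕ Bool) → FreeGroup (Fin 3) := fun k =>
    FreeGroup.of 2 * FreeGroup.map emb (wd k) * (FreeGroup.of 2)⁻¹ * (FreeGroup.map emb (wd (theta hp sw k)))⁻¹
  let at' : Perm (Fin N ⊕ Bool) := incl hpN (a0 p hp)
  refine ⟨L4.map (FreeGroup.map emb) ++ [rel (z0 p), rel (zeta p hp (p - 2))], at',
    by rw [List.length_append, List.length_map]; simp; omega, incl_mem_alt hp hpN _, ?_, ?_⟩
  · have hz : incl hpN (z0 p) = cyc (Fin.ofNat N 0) := by rw [← c0_zero hp, incl_c0 hp hpN (by omega)]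
    have hf : (![cyc (Fin.ofNat N 0), at', mv (finRotate N) sw] ∘ emb) = incl hpN ∘ ![z0 p, a0 p hp] := by
      funext i; fin_cases i
      · exact hz.symm
      · rfl
    have hrel : ∀ k ∈ Subgroup.closure ((fun i : ℕ => c0 p hp i) '' Set.Iio (p - 1)),
        FreeGroup.lift ![cyc (Fin.ofNat N 0), at', mv (finRotate N) sw] (rel k) = 1 := by
      intro k hk
      simp only [rel, map_mul, map_inv, FreeGroup.lift_apply_of, lift_map, hf, ← map_lift, hwd]
      rw [mul_inv_eq_one]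
      exact incl_theta hp hpN sw hk
    intro r hr
    simp only [List.mem_append, List.mem_map, List.mem_cons, List.not_mem_nil, or_false] at hr
    have hmem : ∀ i ≤ p - 2, c0 p hp i ∈ Subgroup.closure ((fun i : ℕ => c0 p hp i) '' Set.Iio (p - 1)) :=
      fun i hi => Subgroup.subset_closure ⟨i, by simp only [Set.mem_Iio]; omega, rfl⟩
    rcases hr with ⟨r, hr, rfl⟩ | rfl | rfl
    · rw [lift_map, hf, ← map_lift, hL4 r hr, map_one]
    · exact hrel _ (by rw [← c0_zero hp]; exact hmem 0 (by omega))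
    · exact hrel _ (zeta_mem hp _ _ hmem)
  intro G _ f hf
  obtain ⟨Ψ, hΨ0, hΨ1⟩ := huniv G (f ∘ emb) fun r hr => by
    rw [← lift_map]; exact hf _ (List.mem_append_left _ (List.mem_map_of_mem hr))
  have hΨ : ∀ w, Ψ (FreeGroup.lift ![z0 p, a0 p hp] w) = FreeGroup.lift f (FreeGroup.map emb w) := fun w => by
    rw [map_lift, lift_map, show (Ψ ∘ ![z0 p, a0 p hp]) = f ∘ emb from funext fun i => by
      fin_cases i
      · exact hΨ0
      · exact hΨ1]
  have hcΨ : ∀ i : ℕ, Ψ (c0 p hp i) = f 1 ^ i * f 0 * (f 1 ^ i)⁻¹ := fun i => by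
    rw [c0, map_mul, map_mul, map_inv, map_pow, hΨ0, hΨ1]; rfl
  let S : Subgroup (alternatingGroup (Fin p ⊕ Bool)) :=
    MonoidHom.eqLocus ((MulAut.conj (f 2)).toMonoidHom.comp Ψ) (Ψ.comp (theta hp sw))
  have hS : ∀ k, rel k ∈ L4.map (FreeGroup.map emb) ++ [rel (z0 p), rel (zeta p hp (p - 2))] → k ∈ S := by
    intro k hk
    have := hf _ hk
    simp only [rel, map_mul, map_inv, FreeGroup.lift_apply_of, ← hΨ, hwd, mul_inv_eq_one] at this
    exact this
  refine ⟨?_, fun d h1 h2 => ?_, fun i hi => ?_, ?_⟩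
  · have : Ψ (z0 p * z0 p * z0 p) = 1 := by rw [show z0 p * z0 p * z0 p = 1 from Subtype.ext (cyc_cube _), map_one]
    simpa [map_mul, hΨ0, emb] using this
  · have h : Pair (c0 p hp 0) (c0 p hp d) := by
      have h' : Pair (cyc (Fin.ofNat p 0) : Perm (Fin p ⊕ Bool)) (cyc (Fin.ofNat p d)) := cyc_pair fun e => by
        have := congrArg Fin.val e
        simp [Fin.ofNat, Nat.mod_eq_of_lt h2] at this
        omega
      exact ⟨Subtype.ext (by simpa [c0_val] using h'.left), Subtype.ext (by simpa [c0_val] using h'.right),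
        Subtype.ext (by simpa [c0_val] using h'.prod)⟩
    have e0 := hcΨ 0
    simp only [pow_zero, one_mul, inv_one, mul_one] at e0
    rw [← hcΨ, ← e0]
    exact ⟨by rw [← map_mul, ← map_mul, h.left, map_one], by rw [← map_mul, ← map_mul, h.right, map_one],
      by rw [← map_mul, ← map_mul, h.prod, map_one]⟩
  · have h : c0 p hp i ∈ S := c0_mem hp S (hS _ (by simp)) (hS _ (by simp)) i hi
    have h' : f 2 * Ψ (c0 p hp i) * (f 2)⁻¹ = Ψ (theta hp sw (c0 p hp i)) := h
    rw [theta_c0, map_fl, hcΨ, hcΨ] at h'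
    exact h'
  · have h : a0 p hp ∈ Subgroup.closure ((fun i : ℕ => c0 p hp i) '' Set.Iio p) := by
      show a0 p hp ∈ Subgroup.closure ((fun i : ℕ => a0 p hp ^ i * z0 p * (a0 p hp ^ i)⁻¹) '' Set.Iio p)
      rw [top_of_conj]; trivial
    have := Subgroup.mem_map_of_mem Ψ h
    rw [MonoidHom.map_closure, ← Set.image_comp, show (⇑Ψ ∘ fun i : ℕ => c0 p hp i) =
      fun i : ℕ => f 1 ^ i * f 0 * (f 1 ^ i)⁻¹ from funext hcΨ, hΨ1] at this
    exact this

/-- A presentation of `T` on three generators, two of which generate. -/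
def Pres3 (T : Type*) [Group T] : Prop :=
  ∃ (R : Finset (FreeGroup (Fin 3))) (e : PresentedGroup (↑R : Set (FreeGroup (Fin 3))) ≃* T), R.card ≤ 7 ∧
    Subgroup.closure {e (PresentedGroup.of 0), e (PresentedGroup.of 2)} = ⊤

theorem pres3_of_bound {T : Type*} [Group T] [Finite T] (R : Finset (FreeGroup (Fin 3))) (hR : R.card ≤ 7)
    (m : Fin 3 → T) (hm : ∀ r ∈ R, FreeGroup.lift m r = 1) (hgen : Subgroup.closure {m 0, m 2} = ⊤)
    (hb : ∀ (G : Type) [Group G] (f : Fin 3 → G), (∀ r ∈ R, FreeGroup.lift f r = 1) →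
      Subgroup.closure {f 0, f 1, f 2} = ⊤ → Finite G ∧ Nat.card G ≤ Nat.card T) : Pres3 T := by
  have hcard := hb (PresentedGroup (↑R : Set (FreeGroup (Fin 3)))) PresentedGroup.of
    (fun r hr => by
      have h := PresentedGroup.one_of_mem (rels := (↑R : Set (FreeGroup (Fin 3)))) hr
      rwa [show FreeGroup.lift (PresentedGroup.of (rels := (↑R : Set (FreeGroup (Fin 3))))) = PresentedGroup.mk _ from
        FreeGroup.ext_hom _ _ fun i => by rw [FreeGroup.lift_apply_of]; rfl])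
    (by
      rw [eq_top_iff, ← PresentedGroup.closure_range_of (↑R : Set (FreeGroup (Fin 3)))]
      refine Subgroup.closure_mono ?_
      rintro _ ⟨i, rfl⟩
      fin_cases i <;> simp)
  haveI := hcard.1
  let π : PresentedGroup (↑R : Set (FreeGroup (Fin 3))) →* T := PresentedGroup.toGroup (f := m) hm
  have hπ : ∀ i, π (PresentedGroup.of i) = m i := fun i => PresentedGroup.toGroup.of _
  have hsurj : Function.Surjective π := by
    rw [← MonoidHom.range_eq_top, eq_top_iff, ← hgen, Subgroup.closure_le]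
    rintro x (rfl | rfl)
    exacts [⟨_, hπ 0⟩, ⟨_, hπ 2⟩]
  have hbij : Function.Bijective π :=
    (Nat.bijective_iff_surjective_and_card π).2 ⟨hsurj, le_antisymm hcard.2 (Nat.card_le_card_of_surjective π hsurj)⟩
  exact ⟨R, MulEquiv.ofBijective π hbij, hR, by simpa [hπ] using hgen⟩

/-- The generating pair of cycles. -/
theorem zs_gen {N : ℕ} [NeZero N] [Nontrivial (Fin N)] (sw : Bool) (S : Subgroup (Perm (Fin N ⊕ Bool)))
    (hz : cyc (Fin.ofNat N 0) ∈ S) (hσ : mv (finRotate N) sw ∈ S) : alternatingGroup (Fin N ⊕ Bool) ≤ S := by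
  rw [← closure_cyc, Subgroup.closure_le]
  rintro _ ⟨i, rfl⟩
  have hi : i = Fin.ofNat N i.val := Fin.ext (by simp [Fin.ofNat, Nat.mod_eq_of_lt i.isLt])
  rw [SetLike.mem_coe, hi, ← zs_model sw, zs]
  refine mul_mem (mul_mem (zpow_mem hσ _) ?_) (inv_mem (zpow_mem hσ _))
  cases sw <;> simp only [fl, Bool.false_eq_true, if_false, if_true] <;> split_ifs <;>
    first | exact hz | exact inv_mem hz

theorem pres3_alt (N : ℕ) (hN : 3 ≤ N) : Pres3 (alternatingGroup (Fin N ⊕ Bool)) := by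
  classical
  obtain ⟨p, hpp, hp, hpN, hpN2⟩ := exists_prime_window N hN
  haveI := Fact.mk hpp
  haveI : NeZero p := ⟨by omega⟩
  haveI : NeZero N := ⟨by omega⟩
  haveI : Nontrivial (Fin N) := Fin.nontrivial_iff_two_le.2 (by omega)
  set sw := decide (Even N) with hsw
  obtain ⟨L, at', hlen, hat, hL, huniv⟩ := six_rels N p hp hpN sw
  let W : FreeGroup (Fin 3) := Lp (FreeGroup.of 2) (FreeGroup.of 0) sw 0 (N - 1)
  let R : Finset (FreeGroup (Fin 3)) := (L ++ [FreeGroup.of 2 * W⁻¹]).toFinset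
  have hσ : mv (finRotate N) sw ∈ alternatingGroup (Fin N ⊕ Bool) := by
    rw [Perm.mem_alternatingGroup, sign_rot, hsw]
    rcases Nat.even_or_odd N with h | h
    · rw [Odd.neg_one_pow (Nat.Even.sub_odd (by omega) h odd_one)]; simp [h]
    · rw [Even.neg_one_pow (Nat.Odd.sub_odd h odd_one)]; simp [Nat.not_even_iff_odd.2 h]
  let m : Fin 3 → alternatingGroup (Fin N ⊕ Bool) :=
    ![⟨cyc (Fin.ofNat N 0), cyc_mem _⟩, ⟨at', hat⟩, ⟨mv (finRotate N) sw, hσ⟩]
  have hmv : ∀ r, ((FreeGroup.lift m r : alternatingGroup (Fin N ⊕ Bool)) : Perm (Fin N ⊕ Bool)) =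
      FreeGroup.lift ![cyc (Fin.ofNat N 0), at', mv (finRotate N) sw] r := fun r => by
    rw [← Subgroup.subtype_apply, map_lift]; congr 2; funext i; fin_cases i <;> rfl
  refine pres3_of_bound R ((List.toFinset_card_le _).trans (by simp; omega)) m (fun r hr => Subtype.ext ?_) ?_ ?_
  · rw [hmv, Subgroup.coe_one]
    simp only [R, List.mem_toFinset, List.mem_append, List.mem_cons, List.not_mem_nil, or_false] at hr
    rcases hr with hr | rfl
    · exact hL r hr
    · rw [map_mul, map_inv, mul_inv_eq_one, FreeGroup.lift_apply_of]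
      show mv (finRotate N) sw = FreeGroup.lift _ W
      rw [map_Lp, FreeGroup.lift_apply_of, FreeGroup.lift_apply_of]
      show mv (finRotate N) sw = Lp (mv (finRotate N) sw) (cyc (Fin.ofNat N 0)) sw 0 (N - 1)
      rw [Lp_model_last]
  · rw [eq_top_iff]
    intro g _
    have := zs_gen sw ((Subgroup.closure {m 0, m 2}).map (alternatingGroup (Fin N ⊕ Bool)).subtype)
      ⟨_, Subgroup.subset_closure (Or.inl rfl), rfl⟩ ⟨_, Subgroup.subset_closure (Or.inr rfl), rfl⟩ g.2
    obtain ⟨g', hg', he⟩ := this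
    rwa [← Subtype.ext he]
  intro G _ f hf hcl
  obtain ⟨h1, h2, h3, h4⟩ := huniv G f fun r hr => hf r (by simp [R, hr])
  have hlast := hf (FreeGroup.of 2 * W⁻¹) (by simp [R])
  rw [map_mul, map_inv, mul_inv_eq_one, FreeGroup.lift_apply_of, map_Lp, FreeGroup.lift_apply_of,
    FreeGroup.lift_apply_of] at hlast
  obtain ⟨hfin, hc⟩ := (bound (f 2) (f 0) (f 1) sw p N hp hpN hpN2 h1 h2 h3 h4 hcl).1 hlast
  refine ⟨hfin, ?_⟩
  have := two_mul_card_alt (Fin N ⊕ Bool) (by simp)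
  rw [Nat.card_sum, Nat.card_fin, Nat.card_eq_fintype_card (α := Bool), Fintype.card_bool] at this
  omega

theorem pres3_sym (N : ℕ) (hN : 3 ≤ N) : Pres3 (Perm (Fin N ⊕ Bool)) := by
  classical
  obtain ⟨p, hpp, hp, hpN, hpN2⟩ := exists_prime_window N hN
  haveI := Fact.mk hpp
  haveI : NeZero p := ⟨by omega⟩
  haveI : NeZero N := ⟨by omega⟩
  haveI : Nontrivial (Fin N) := Fin.nontrivial_iff_two_le.2 (by omega)
  set sw := decide (Odd N) with hsw
  obtain ⟨L, at', hlen, -, hL, huniv⟩ := six_rels N p hp hpN sw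
  let W : FreeGroup (Fin 3) := Lp (FreeGroup.of 2) (FreeGroup.of 0) sw 0 (N - 1)
  let R : Finset (FreeGroup (Fin 3)) := (L ++ [FreeGroup.of 2 * FreeGroup.of 2 * (W * W)⁻¹]).toFinset
  let m : Fin 3 → Perm (Fin N ⊕ Bool) := ![cyc (Fin.ofNat N 0), at', mv (finRotate N) sw]
  have hodd : Perm.sign (mv (finRotate N) sw) = -1 := by
    rw [sign_rot, hsw]
    rcases Nat.even_or_odd N with h | h
    · rw [Odd.neg_one_pow (Nat.Even.sub_odd (by omega) h odd_one)]; simp [Nat.not_odd_iff_even.2 h]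
    · rw [Even.neg_one_pow (Nat.Odd.sub_odd h odd_one)]; simp [h]
  refine pres3_of_bound R ((List.toFinset_card_le _).trans (by simp; omega)) m (fun r hr => ?_) ?_ ?_
  · simp only [R, List.mem_toFinset, List.mem_append, List.mem_cons, List.not_mem_nil, or_false] at hr
    rcases hr with hr | rfl
    · exact hL r hr
    · rw [map_mul, map_inv, mul_inv_eq_one, map_mul, map_mul, FreeGroup.lift_apply_of]
      show mv (finRotate N) sw * mv (finRotate N) sw = FreeGroup.lift _ W * FreeGroup.lift _ W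
      rw [map_Lp, FreeGroup.lift_apply_of, FreeGroup.lift_apply_of]
      show _ = Lp (mv (finRotate N) sw) (cyc (Fin.ofNat N 0)) sw 0 (N - 1) *
        Lp (mv (finRotate N) sw) (cyc (Fin.ofNat N 0)) sw 0 (N - 1)
      rw [Lp_model_last, mv_mul, mv_mul, bne_self_eq_false, bne_self_eq_false]
  · rw [eq_top_iff]
    intro g _
    have hA := zs_gen sw (Subgroup.closure {m 0, m 2}) (Subgroup.subset_closure (Or.inl rfl))
      (Subgroup.subset_closure (Or.inr rfl))
    rcases Int.units_eq_one_or (Perm.sign g) with h | h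
    · exact hA (Perm.mem_alternatingGroup.2 h)
    · have : g * (mv (finRotate N) sw)⁻¹ ∈ alternatingGroup (Fin N ⊕ Bool) := by
        rw [Perm.mem_alternatingGroup, map_mul, map_inv, hodd, h]; rfl
      simpa using mul_mem (hA this) (Subgroup.subset_closure (show mv (finRotate N) sw ∈ ({m 0, m 2} : Set _) from Or.inr rfl))
  intro G _ f hf hcl
  obtain ⟨h1, h2, h3, h4⟩ := huniv G f fun r hr => hf r (by simp [R, hr])
  have hlast := hf (FreeGroup.of 2 * FreeGroup.of 2 * (W * W)⁻¹) (by simp [R])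
  rw [map_mul, map_inv, mul_inv_eq_one, map_mul, map_mul, FreeGroup.lift_apply_of, map_Lp, FreeGroup.lift_apply_of,
    FreeGroup.lift_apply_of] at hlast
  obtain ⟨hfin, hc⟩ := (bound (f 2) (f 0) (f 1) sw p N hp hpN hpN2 h1 h2 h3 h4 hcl).2 rfl hlast
  refine ⟨hfin, ?_⟩
  rw [Nat.card_perm, Nat.card_sum, Nat.card_fin, Nat.card_eq_fintype_card (α := Bool), Fintype.card_bool]
  exact hc

end Cfsg.Lib.AltPres
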