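import Cfsg.Agent.Known.AltPres.Pairs

/-!
# A block of consecutive points and a shift bound a symmetric or alternating group

The shift `σ` moves the three-cycles `zs i` along the line of indices; a single further relation expressing `σ` or its
square by the neighbouring involutions makes the line periodic.
-/

set_option autoImplicit false

namespace Cfsg.Lib.AltPres

variable {G : Type*} [Group G]

/-- Invert or not. -/
def fl (sw : Bool) (x : G) : G := if sw then x⁻¹ else x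

theorem fl_inv (sw : Bool) (x : G) : fl sw x⁻¹ = (fl sw x)⁻¹ := by cases sw <;> simp [fl]

theorem fl_fl (sw : Bool) (x : G) : fl sw (fl sw x) = x := by cases sw <;> simp [fl]

theorem fl_conj (sw : Bool) (g x : G) : fl sw (g * x * g⁻¹) = g * fl sw x * g⁻¹ := by
  cases sw <;> simp [fl, mul_assoc]

theorem fl_pair (sw : Bool) {a b : G} (h : Pair a b) : Pair (fl sw a) (fl sw b) := by
  cases sw
  · exact h
  · exact h.inv

theorem fl_dd (sw : Bool) {a b : G} (h : Pair a b) : dd (fl sw a) (fl sw b) = dd a b := by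
  cases sw
  · rfl
  · show dd a⁻¹ b⁻¹ = dd a b
    rw [← dd_inv_eq, h.dd_inv]

/-- The three-cycle at an index. -/
def zs (σ z : G) (sw : Bool) (i : ℤ) : G := σ ^ i * (if Even i then z else fl sw z) * (σ ^ i)⁻¹

theorem map_fl {H : Type*} [Group H] (f : G →* H) (sw : Bool) (x : G) : f (fl sw x) = fl sw (f x) := by
  cases sw <;> simp [fl]

theorem map_zs {H : Type*} [Group H] (f : G →* H) (σ z : G) (sw : Bool) (i : ℤ) :
    f (zs σ z sw i) = zs (f σ) (f z) sw i := by
  by_cases h : Even i <;> simp [zs, h, map_fl]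

theorem zs_zero (σ z : G) (sw : Bool) : zs σ z sw 0 = z := by simp [zs]

theorem zs_succ (σ z : G) (sw : Bool) (i : ℤ) : zs σ z sw (i + 1) = fl sw (σ * zs σ z sw i * σ⁻¹) := by
  have e : σ ^ (i + 1) = σ * σ ^ i := by rw [add_comm, zpow_one_add]
  by_cases h : Even i
  · have h' : ¬ Even (i + 1) := by rw [Int.even_add_one]; exact not_not.2 h
    simp only [zs, h, h', if_true, if_false, fl_conj, e]; group
  · have h' : Even (i + 1) := by rw [Int.even_add_one]; exact h
    simp only [zs, h, h', if_true, if_false, fl_conj, fl_fl, e]; group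

theorem shift_zs (σ z : G) (sw : Bool) (i : ℤ) : σ * zs σ z sw i * σ⁻¹ = fl sw (zs σ z sw (i + 1)) := by
  rw [zs_succ, fl_fl]

/-- The involution at an index. -/
def sd (σ z : G) (sw : Bool) (i : ℤ) : G := dd (zs σ z sw i) (zs σ z sw (i + 1))

/-- A product of consecutive involutions. -/
def Lp (σ z : G) (sw : Bool) (j : ℤ) : ℕ → G
  | 0 => 1
  | k + 1 => Lp σ z sw j k * sd σ z sw (j + k)

theorem map_dd {H : Type*} [Group H] (f : G →* H) (a b : G) : f (dd a b) = dd (f a) (f b) := by simp [dd]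

theorem map_Lp {H : Type*} [Group H] (f : G →* H) (σ z : G) (sw : Bool) (j : ℤ) (k : ℕ) :
    f (Lp σ z sw j k) = Lp (f σ) (f z) sw j k := by
  induction k with
  | zero => simp [Lp]
  | succ k ih => simp [Lp, sd, ih, map_dd, map_zs]

variable {σ z : G} {sw : Bool}

theorem Lp_add (j : ℤ) (k : ℕ) : ∀ l : ℕ, Lp σ z sw j (k + l) = Lp σ z sw j k * Lp σ z sw (j + k) l
  | 0 => by simp [Lp]
  | l + 1 => by
    show Lp σ z sw j (k + l + 1) = _
    rw [Lp, Lp, Lp_add j k l, ← mul_assoc]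
    push_cast
    ring_nf

theorem Lp_invert (j : ℤ) : ∀ (k : ℕ) (x : G),
    (∀ t < k, sd σ z sw (j + t) * sd σ z sw (j + t) = 1 ∧ sd σ z sw (j + t) * x * sd σ z sw (j + t) = x⁻¹) →
    Lp σ z sw j k * x * (Lp σ z sw j k)⁻¹ = if Even k then x else x⁻¹
  | 0, x, _ => by simp [Lp]
  | k + 1, x, h => by
    obtain ⟨h1, h2⟩ := h k (by omega)
    have ih := Lp_invert j k x fun t ht => h t (by omega)
    rw [Lp, mul_inv_rev, inv_eq_of_mul_eq_one_left h1]
    calc Lp σ z sw j k * sd σ z sw (j + k) * x * (sd σ z sw (j + k) * (Lp σ z sw j k)⁻¹)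
        = Lp σ z sw j k * (sd σ z sw (j + k) * x * sd σ z sw (j + k)) * (Lp σ z sw j k)⁻¹ := by group
      _ = (Lp σ z sw j k * x * (Lp σ z sw j k)⁻¹)⁻¹ := by rw [h2]; group
      _ = _ := by
        rw [ih]
        by_cases hk : Even k <;> simp [hk, Nat.even_add_one]

theorem translate {P : ℤ → Prop} (h : ∀ i, P i ↔ P (i + 1)) (h0 : P 0) : ∀ i, P i := by
  intro i
  induction i using Int.induction_on with
  | zero => exact h0
  | succ i ih => exact (h i).1 ih
  | pred i ih => exact (h _).2 (by rwa [sub_add_cancel])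

section Block

variable {p N : ℕ}
  (hwin : ∀ d : ℕ, 1 ≤ d → d < p → Pair (zs σ z sw 0) (zs σ z sw d))

include hwin

theorem pair_window (i : ℤ) {d : ℕ} (h1 : 1 ≤ d) (h2 : d < p) : Pair (zs σ z sw i) (zs σ z sw (i + d)) := by
  refine translate (P := fun i : ℤ => Pair (zs σ z sw i) (zs σ z sw (i + d))) (fun k => ⟨fun h => ?_, fun h => ?_⟩)
    (by simpa using hwin d h1 h2) i
  · have := fl_pair sw (h.conj σ)
    rwa [← zs_succ, ← zs_succ, add_right_comm] at this
  · rw [add_right_comm, zs_succ, zs_succ] at h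
    have := (fl_pair sw h).conj σ⁻¹
    rw [fl_fl, fl_fl] at this
    simpa [mul_assoc] using this

theorem pair_near {i j : ℤ} (hne : i ≠ j) (h : i - j < p) (h' : j - i < p) :
    Pair (zs σ z sw i) (zs σ z sw j) := by
  rcases lt_or_gt_of_ne hne with hlt | hgt
  · obtain ⟨d, rfl⟩ : ∃ d : ℕ, j = i + d := ⟨(j - i).toNat, by omega⟩
    exact pair_window hwin i (by omega) (by omega)
  · obtain ⟨d, rfl⟩ : ∃ d : ℕ, i = j + d := ⟨(i - j).toNat, by omega⟩
    exact (pair_window hwin j (by omega) (by omega)).symm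

variable (hp : 3 ≤ p)
include hp

theorem sd_sq (i : ℤ) : sd σ z sw i * sd σ z sw i = 1 :=
  (pair_near hwin (by omega) (by omega) (by omega) : Pair (zs σ z sw i) (zs σ z sw (i + 1))).dd_sq

theorem sd_inv (i : ℤ) : (sd σ z sw i)⁻¹ = sd σ z sw i := inv_eq_of_mul_eq_one_left (sd_sq hwin hp i)

theorem shift_sd (i : ℤ) : σ * sd σ z sw i * σ⁻¹ = sd σ z sw (i + 1) := by
  have h : Pair (zs σ z sw (i + 1)) (zs σ z sw (i + 1 + 1)) := pair_near hwin (by omega) (by omega) (by omega)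
  calc σ * sd σ z sw i * σ⁻¹ = dd (σ * zs σ z sw i * σ⁻¹) (σ * zs σ z sw (i + 1) * σ⁻¹) := by rw [sd, dd, dd]; group
    _ = _ := by rw [shift_zs, shift_zs, fl_dd sw h, sd]

theorem shift_Lp (j : ℤ) : ∀ k : ℕ, σ * Lp σ z sw j k * σ⁻¹ = Lp σ z sw (j + 1) k
  | 0 => by simp [Lp]
  | k + 1 => by
    rw [Lp, Lp, show σ * (Lp σ z sw j k * sd σ z sw (j + k)) * σ⁻¹ =
      (σ * Lp σ z sw j k * σ⁻¹) * (σ * sd σ z sw (j + k) * σ⁻¹) by group, shift_Lp j k, shift_sd hwin hp,
      add_right_comm]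

theorem next_zs (i : ℤ) : zs σ z sw (i + 1) = sd σ z sw i * (zs σ z sw i)⁻¹ * sd σ z sw i :=
  ((pair_near hwin (by omega) (by omega) (by omega) : Pair (zs σ z sw i) (zs σ z sw (i + 1))).dd_swap).symm

theorem sd_inverts {i j : ℤ} (hij : i ≠ j) (hij' : i ≠ j + 1) (h1 : i - j < p) (h2 : j + 1 - i < p) :
    sd σ z sw j * zs σ z sw i * sd σ z sw j = (zs σ z sw i)⁻¹ :=
  Pair.dd_inverts (pair_near hwin hij (by omega) (by omega)) (pair_near hwin hij' (by omega) (by omega))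
    (pair_near hwin (by omega) (by omega) (by omega))

theorem sd_braid (i : ℤ) :
    sd σ z sw i * sd σ z sw (i + 1) * sd σ z sw i = sd σ z sw (i + 1) * sd σ z sw i * sd σ z sw (i + 1) := by
  have h : sd σ z sw i * sd σ z sw (i + 1) * (sd σ z sw i * sd σ z sw (i + 1)) *
      (sd σ z sw i * sd σ z sw (i + 1)) = 1 :=
    braid_cube (pair_near hwin (by omega) (by omega) (by omega)) (pair_near hwin (by omega) (by omega) (by omega))
      (pair_near hwin (by omega) (by omega) (by omega))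
  rw [show sd σ z sw i * sd σ z sw (i + 1) * (sd σ z sw i * sd σ z sw (i + 1)) *
    (sd σ z sw i * sd σ z sw (i + 1)) = (sd σ z sw i * sd σ z sw (i + 1) * sd σ z sw i) *
      (sd σ z sw (i + 1) * sd σ z sw i * sd σ z sw (i + 1)) by group] at h
  rw [eq_inv_of_mul_eq_one_left h, mul_inv_rev, mul_inv_rev, sd_inv hwin hp, sd_inv hwin hp]
  group

variable (hpN : p ≤ N) (hN : N + 2 ≤ 2 * p)
include hpN hN

theorem conj_eq_shift_of_odd (hsw : sw = decide (Odd N)) (hrel : σ * σ = Lp σ z sw 0 (N - 1) * Lp σ z sw 0 (N - 1)) :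
    ∀ i : ℤ, Lp σ z sw 0 (N - 1) * zs σ z sw i * (Lp σ z sw 0 (N - 1))⁻¹ = (σ * zs σ z sw i * σ⁻¹)⁻¹ := by
  set L := Lp σ z sw 0 (N - 1) with hL
  obtain ⟨i₀, hi₀⟩ : ∃ i₀ : ℕ, i₀ = N - p := ⟨_, rfl⟩
  set τ := L⁻¹ * σ with hτ
  have key : L * zs σ z sw i₀ * L⁻¹ = (fl sw (zs σ z sw (i₀ + 1)))⁻¹ := by
    have e : L = Lp σ z sw 0 i₀ * sd σ z sw i₀ * Lp σ z sw (i₀ + 1) (N - 2 - i₀) := by
      rw [hL, show N - 1 = (i₀ + 1) + (N - 2 - i₀) by omega, Lp_add, Lp]
      push_cast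
      rw [zero_add, zero_add]
    have r := Lp_invert (σ := σ) (z := z) (sw := sw) (i₀ + 1 : ℤ) (N - 2 - i₀) (zs σ z sw i₀) fun t ht =>
      ⟨sd_sq hwin hp _, sd_inverts hwin hp (by omega) (by omega) (by omega) (by omega)⟩
    have l := Lp_invert (σ := σ) (z := z) (sw := sw) (0 : ℤ) i₀ (zs σ z sw ((i₀ : ℤ) + 1)) fun t ht =>
      ⟨sd_sq hwin hp _, sd_inverts hwin hp (by omega) (by omega) (by omega) (by omega)⟩
    have m : sd σ z sw i₀ * (zs σ z sw i₀)⁻¹ * sd σ z sw i₀ = zs σ z sw (i₀ + 1) := (next_zs hwin hp _).symm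
    have m' : sd σ z sw i₀ * zs σ z sw i₀ * sd σ z sw i₀ = (zs σ z sw (i₀ + 1))⁻¹ := by
      rw [← m, mul_inv_rev, mul_inv_rev, inv_inv, sd_inv hwin hp]; group
    calc L * zs σ z sw i₀ * L⁻¹ = Lp σ z sw 0 i₀ * (sd σ z sw i₀ * (Lp σ z sw (i₀ + 1) (N - 2 - i₀) *
          zs σ z sw i₀ * (Lp σ z sw (i₀ + 1) (N - 2 - i₀))⁻¹) * (sd σ z sw i₀)⁻¹) * (Lp σ z sw 0 i₀)⁻¹ := by
          rw [e]; group
      _ = _ := by
        rw [r, sd_inv hwin hp]
        have par : Even N ↔ (Even i₀ ↔ Even (N - 2 - i₀)) := by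
          conv_lhs => rw [show N = i₀ + (N - 2 - i₀) + 2 by omega]
          simp [Nat.even_add]
        by_cases h1 : Even i₀ <;> by_cases h2 : Even (N - 2 - i₀)
        · have hne : ¬ Odd N := by rw [Nat.not_odd_iff_even, par]; tauto
          rw [if_pos h2, m', ← conj_inv, l, if_pos h1]
          simp [fl, hsw, hne]
        · have ho : Odd N := by rw [← Nat.not_even_iff_odd, par]; tauto
          rw [if_neg h2, m, l, if_pos h1]
          simp [fl, hsw, ho]
        · have ho : Odd N := by rw [← Nat.not_even_iff_odd, par]; tauto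
          rw [if_pos h2, m', ← conj_inv, l, if_neg h1]
          simp [fl, hsw, ho]
        · have hne : ¬ Odd N := by rw [Nat.not_odd_iff_even, par]; tauto
          rw [if_neg h2, m, l, if_neg h1]
          simp [fl, hsw, hne]
  -- τ inverts every three-cycle
  have hτ' : L⁻¹ * σ = L * σ⁻¹ := by
    rw [inv_mul_eq_iff_eq_mul, ← mul_assoc, ← hrel, mul_inv_cancel_right]
  have hcancel : σ * L * L = L * L * σ := by rw [mul_assoc, ← hrel, mul_assoc]
  have hflip : σ * τ * σ⁻¹ = τ⁻¹ := by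
    rw [hτ, mul_inv_rev, inv_inv]
    calc σ * (L⁻¹ * σ) * σ⁻¹ = σ * L⁻¹ := by group
      _ = σ⁻¹ * L := by
        rw [eq_inv_mul_iff_mul_eq, ← mul_assoc, hrel, mul_inv_cancel_right]
  have hstep : ∀ i : ℤ, τ * zs σ z sw i * τ⁻¹ = (zs σ z sw i)⁻¹ ↔
      τ * zs σ z sw (i + 1) * τ⁻¹ = (zs σ z sw (i + 1))⁻¹ := by
    intro i
    have e : ∀ x : G, σ * (τ * x * τ⁻¹) * σ⁻¹ = τ⁻¹ * (σ * x * σ⁻¹) * τ⁻¹⁻¹ := fun x => by
      conv_rhs => rw [← hflip]
      group
    have flip_iff : ∀ y : G, τ * y * τ⁻¹ = y⁻¹ ↔ τ⁻¹ * y * τ⁻¹⁻¹ = y⁻¹ := fun y => by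
      constructor <;> intro h
      · calc τ⁻¹ * y * τ⁻¹⁻¹ = τ⁻¹ * (τ * y * τ⁻¹)⁻¹ * τ := by rw [h]; group
          _ = _ := by group
      · calc τ * y * τ⁻¹ = τ * (τ⁻¹ * y * τ⁻¹⁻¹)⁻¹ * τ⁻¹ := by rw [h]; group
          _ = _ := by group
    have inv_iff : τ * fl sw (zs σ z sw (i + 1)) * τ⁻¹ = (fl sw (zs σ z sw (i + 1)))⁻¹ ↔
        τ * zs σ z sw (i + 1) * τ⁻¹ = (zs σ z sw (i + 1))⁻¹ := by
      cases sw
      · rfl
      · show τ * (zs σ z true (i + 1))⁻¹ * τ⁻¹ = (zs σ z true (i + 1))⁻¹⁻¹ ↔ _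
        rw [show τ * (zs σ z true (i + 1))⁻¹ * τ⁻¹ = (τ * zs σ z true (i + 1) * τ⁻¹)⁻¹ by group, inv_inj]
    rw [← inv_iff, ← shift_zs, flip_iff (σ * zs σ z sw i * σ⁻¹), ← e,
      show (σ * zs σ z sw i * σ⁻¹)⁻¹ = σ * (zs σ z sw i)⁻¹ * σ⁻¹ by group, mul_left_inj, mul_right_inj]
  have h0 : τ * zs σ z sw i₀ * τ⁻¹ = (zs σ z sw i₀)⁻¹ := by
    have h := shift_zs σ z sw i₀
    have key' : L * (zs σ z sw i₀)⁻¹ * L⁻¹ = σ * zs σ z sw i₀ * σ⁻¹ := by
      rw [show L * (zs σ z sw i₀)⁻¹ * L⁻¹ = (L * zs σ z sw i₀ * L⁻¹)⁻¹ by group, key, inv_inv, h]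
    calc τ * zs σ z sw i₀ * τ⁻¹ = L⁻¹ * (σ * zs σ z sw i₀ * σ⁻¹) * L := by rw [hτ]; group
      _ = _ := by rw [← key']; group
  have hall : ∀ i : ℤ, τ * zs σ z sw i * τ⁻¹ = (zs σ z sw i)⁻¹ := by
    have := translate (P := fun i : ℤ => τ * zs σ z sw (i₀ + i) * τ⁻¹ = (zs σ z sw (i₀ + i))⁻¹)
      (fun i => by rw [← add_assoc]; exact hstep _) (by simpa using h0)
    intro i
    simpa using this (i - i₀)
  intro i
  calc L * zs σ z sw i * L⁻¹ = L * (τ * zs σ z sw i * τ⁻¹)⁻¹ * L⁻¹ := by rw [hall, inv_inv]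
    _ = _ := by rw [hτ]; group

theorem periodic (hψ : ∀ i : ℤ, Lp σ z sw 0 (N - 1) * sd σ z sw i * (Lp σ z sw 0 (N - 1))⁻¹ = sd σ z sw (i + 1)) :
    (∀ i : ℤ, sd σ z sw (i + N) = sd σ z sw i) ∧ ∀ i : ℤ, zs σ z sw (i + N) = zs σ z sw i := by
  set L := Lp σ z sw 0 (N - 1) with hL
  let T : MulAut G := MulAut.conj L
  have hmap : ∀ (j : ℤ) (k : ℕ), L * Lp σ z sw j k * L⁻¹ = Lp σ z sw (j + 1) k := by
    intro j k
    induction k with
    | zero => simp [Lp]
    | succ k ih =>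
      rw [Lp, Lp, show L * (Lp σ z sw j k * sd σ z sw (j + k)) * L⁻¹ =
        (L * Lp σ z sw j k * L⁻¹) * (L * sd σ z sw (j + k) * L⁻¹) by group, ih, hψ, add_right_comm]
  have hL1 : Lp σ z sw 1 (N - 1) = L := by
    have := hmap 0 (N - 1)
    rw [zero_add, ← hL, mul_inv_cancel_right] at this
    exact this.symm
  have hL2 : Lp σ z sw 2 (N - 1) = L := by
    have := hmap 1 (N - 1)
    rw [hL1, mul_inv_cancel_right, show (1 : ℤ) + 1 = 2 by norm_num] at this
    exact this.symm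
  set s := sd σ z sw with hs
  set M := Lp σ z sw 2 (N - 3) with hM
  have eL : L = s 0 * s 1 * M := by
    rw [hL, show N - 1 = 2 + (N - 3) by omega, Lp_add]
    simp [Lp, hM, hs]
  have eL1 : L = s 1 * M * s ((N : ℤ) - 1) := by
    rw [← hL1, show N - 1 = 1 + (N - 3) + 1 by omega, Lp, Lp_add]
    simp only [Lp, hM, hs, one_mul, Nat.cast_zero, add_zero, Nat.cast_one]
    rw [show (1 : ℤ) + 1 = 2 by norm_num, show (1 : ℤ) + ((1 + (N - 3) : ℕ) : ℤ) = (N : ℤ) - 1 by omega]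
  have eL2 : L = M * s ((N : ℤ) - 1) * s N := by
    rw [← hL2, show N - 1 = (N - 3) + 1 + 1 by omega, Lp, Lp]
    rw [show (2 : ℤ) + ((N - 3 + 1 : ℕ) : ℤ) = N by omega, show (2 : ℤ) + ((N - 3 : ℕ) : ℤ) = (N : ℤ) - 1 by omega]
  have hs2 : ∀ i, s i * s i = 1 := sd_sq hwin hp
  have hsi : ∀ i, (s i)⁻¹ = s i := sd_inv hwin hp
  have hbr : s 0 * s 1 * s 0 = s 1 * s 0 * s 1 := by simpa using sd_braid hwin hp 0
  have hMs : M * s 0 = s 0 * M := by
    have h1 : L * s 0 = s 1 * L := by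
      have := hψ 0
      rw [zero_add] at this
      rw [← this]; group
    rw [eL] at h1
    have : s 0 * s 1 * (M * s 0) = s 0 * s 1 * (s 0 * M) := by
      calc s 0 * s 1 * (M * s 0) = s 0 * s 1 * M * s 0 := by group
        _ = (s 1 * s 0 * s 1) * M := by rw [h1]; group
        _ = _ := by rw [← hbr]; group
    exact mul_left_cancel this
  have hlast : s ((N : ℤ) - 1) = M⁻¹ * (s 1 * s 0 * s 1) * M := by
    have h1 : s 1 * M * s ((N : ℤ) - 1) = s 0 * s 1 * M := eL1.symm.trans eL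
    calc s ((N : ℤ) - 1) = M⁻¹ * (s 1)⁻¹ * (s 1 * M * s ((N : ℤ) - 1)) := by group
      _ = _ := by rw [h1, hsi]; group
  have hN0 : s N = s 0 := by
    have h2 : M * s ((N : ℤ) - 1) * s N = s 0 * s 1 * M := eL2.symm.trans eL
    calc s N = (M * s ((N : ℤ) - 1))⁻¹ * (M * s ((N : ℤ) - 1) * s N) := by group
      _ = M⁻¹ * (s 1 * s 0 * s 1)⁻¹ * (s 0 * s 1) * M := by rw [h2, hlast]; group
      _ = M⁻¹ * (s 0 * s 1 * s 0)⁻¹ * (s 0 * s 1) * M := by rw [hbr]
      _ = M⁻¹ * (s 0)⁻¹ * M := by group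
      _ = _ := by rw [hsi, mul_assoc, ← hMs, inv_mul_cancel_left]
  have hper : ∀ i : ℤ, s (i + N) = s i := by
    refine translate (P := fun i : ℤ => s (i + N) = s i) (fun i => ?_) (by simpa using hN0)
    rw [add_right_comm, hs, ← shift_sd hwin hp, ← shift_sd hwin hp, mul_left_inj, mul_right_inj]
  refine ⟨hper, ?_⟩
  have hk : ∀ k : ℕ, zs σ z sw k = (Lp σ z sw 0 k)⁻¹ * (if Even k then z else z⁻¹) * Lp σ z sw 0 k := by
    intro k
    induction k with
    | zero => simp [Lp, zs_zero]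
    | succ k ih =>
      rw [Nat.cast_succ, next_zs hwin hp, ih, Lp, zero_add]
      by_cases hk : Even k <;> simp [hk, Nat.even_add_one, sd_inv hwin hp, mul_assoc]
  have hinv : ∀ t < N - 2, s (1 + t) * z * s (1 + t) = z⁻¹ := by
    intro t ht
    have h0 : z = zs σ z sw 0 := (zs_zero σ z sw).symm
    rw [h0]
    by_cases hlo : t + 2 < p
    · exact sd_inverts hwin hp (by omega) (by omega) (by omega) (by omega)
    · rw [← sub_add_cancel (1 + (t : ℤ)) N, hper]
      exact sd_inverts hwin hp (by omega) (by omega) (by omega) (by omega)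
  have hR := Lp_invert (σ := σ) (z := z) (sw := sw) 1 (N - 2) z fun t ht => ⟨hs2 _, hinv t ht⟩
  have hQ : Lp σ z sw 0 N = Lp σ z sw 1 (N - 2) := by
    have eR : L = Lp σ z sw 1 (N - 2) * s ((N : ℤ) - 1) := by
      rw [← hL1, show N - 1 = N - 2 + 1 by omega, Lp]
      rw [show (1 : ℤ) + ((N - 2 : ℕ) : ℤ) = (N : ℤ) - 1 by omega]
    rw [show N = N - 1 + 1 by omega, Lp, ← hL, show (0 : ℤ) + ((N - 1 : ℕ) : ℤ) = (N : ℤ) - 1 by omega, eR,
      mul_assoc, ← hs, hs2, mul_one, show N - 1 + 1 - 2 = N - 2 by omega]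
  have hzN : zs σ z sw N = z := by
    rw [hk, hQ]
    by_cases hev : Even N
    · have hev' : Even (N - 2) := by rw [Nat.even_sub (by omega)]; simp [hev]
      rw [if_pos hev] at *
      rw [if_pos hev'] at hR
      calc _ = (Lp σ z sw 1 (N - 2))⁻¹ * (Lp σ z sw 1 (N - 2) * z * (Lp σ z sw 1 (N - 2))⁻¹) *
            Lp σ z sw 1 (N - 2) := by rw [hR]
        _ = z := by group
    · have hev' : ¬ Even (N - 2) := by rw [Nat.even_sub (by omega)]; simp [hev]
      rw [if_neg hev] at *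
      rw [if_neg hev'] at hR
      calc _ = (Lp σ z sw 1 (N - 2))⁻¹ * (Lp σ z sw 1 (N - 2) * z * (Lp σ z sw 1 (N - 2))⁻¹) *
            Lp σ z sw 1 (N - 2) := by rw [hR]
        _ = z := by group
  refine translate (P := fun i : ℤ => zs σ z sw (i + N) = zs σ z sw i) (fun i => ?_) (by simpa [zs_zero] using hzN)
  constructor
  · intro h
    rw [add_right_comm, zs_succ, h, ← zs_succ]
  · intro h
    rw [add_right_comm, zs_succ, zs_succ] at h
    have := congrArg (fl sw) h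
    rwa [fl_fl, fl_fl, mul_left_inj, mul_right_inj] at this

end Block

/-- The bound. -/
theorem bound (σ z a : G) (sw : Bool) (p N : ℕ) (hp : 3 ≤ p) (hpN : p ≤ N) (hN : N + 2 ≤ 2 * p)
    (hcube : z * z * z = 1) (hpair : ∀ d : ℕ, 1 ≤ d → d < p → Pair z (a ^ d * z * (a ^ d)⁻¹))
    (hshift : ∀ i : ℕ, i + 1 < p →
      σ * (a ^ i * z * (a ^ i)⁻¹) * σ⁻¹ = fl sw (a ^ (i + 1) * z * (a ^ (i + 1))⁻¹))
    (ha : a ∈ Subgroup.closure ((fun i : ℕ => a ^ i * z * (a ^ i)⁻¹) '' Set.Iio p))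
    (hcl : Subgroup.closure {z, a, σ} = ⊤) :
    (σ = Lp σ z sw 0 (N - 1) → Finite G ∧ 2 * Nat.card G ≤ (N + 2).factorial) ∧
      (sw = decide (Odd N) → σ * σ = Lp σ z sw 0 (N - 1) * Lp σ z sw 0 (N - 1) →
        Finite G ∧ Nat.card G ≤ (N + 2).factorial) := by
  have hblk : ∀ i : ℕ, i < p → zs σ z sw i = a ^ i * z * (a ^ i)⁻¹ := by
    intro i
    induction i with
    | zero => intro _; simp [zs_zero]
    | succ i ih =>
      intro hi
      rw [Nat.cast_succ, zs_succ, ih (by omega), hshift i hi, fl_fl]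
  have hwin : ∀ d : ℕ, 1 ≤ d → d < p → Pair (zs σ z sw 0) (zs σ z sw d) := fun d h1 h2 => by
    rw [zs_zero, hblk d h2]; exact hpair d h1 h2
  -- common consequences of periodicity
  have main : (∀ i : ℤ, Lp σ z sw 0 (N - 1) * sd σ z sw i * (Lp σ z sw 0 (N - 1))⁻¹ = sd σ z sw (i + 1)) →
      ∃ K : Subgroup G, Finite K ∧ 2 * Nat.card K ≤ (N + 2).factorial ∧ z ∈ K ∧ a ∈ K ∧
        Lp σ z sw 0 (N - 1) ∈ K ∧ ∀ x ∈ K, σ * x * σ⁻¹ ∈ K ∧ σ⁻¹ * x * σ ∈ K := by
    intro hψ
    obtain ⟨-, hper⟩ := periodic hwin hp hpN hN hψ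
    have hperk : ∀ (k : ℤ) (i : ℤ), zs σ z sw (i + N * k) = zs σ z sw i := by
      intro k
      induction k using Int.induction_on with
      | zero => intro i; simp
      | succ k ih => intro i; rw [show i + (N : ℤ) * (k + 1) = i + N * k + N by ring, hper, ih]
      | pred k ih =>
        intro i
        rw [← hper (i + N * (-(k : ℤ) - 1)), show i + (N : ℤ) * (-(k : ℤ) - 1) + N = i + N * -(k : ℤ) by ring, ih]
    set K := Subgroup.closure ((fun i : ℕ => zs σ z sw i) '' Set.Iio N) with hK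
    have hmem : ∀ i : ℤ, zs σ z sw i ∈ K := fun i => by
      rw [← Int.emod_add_ediv_mul i N, mul_comm (i / N) (N : ℤ), hperk]
      refine Subgroup.subset_closure ⟨(i % N).toNat, ?_, ?_⟩
      · have := Int.emod_lt_of_pos i (show (0 : ℤ) < N by omega)
        show (i % N).toNat < N
        omega
      · show zs σ z sw ((i % N).toNat : ℤ) = _
        rw [Int.toNat_of_nonneg (Int.emod_nonneg _ (by omega))]
    have hfl : ∀ x ∈ K, fl sw x ∈ K := fun x hx => by
      cases sw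
      · exact hx
      · exact inv_mem hx
    obtain ⟨hfin, hcard⟩ := carmichael (fun i : ℕ => zs σ z sw i) N
      (fun i _ => (pair_near hwin (show (i : ℤ) ≠ i + 1 by omega) (by omega) (by omega)).left)
      (fun i j hi hj hne => by
        by_cases h1 : (i : ℤ) - j < p ∧ (j : ℤ) - i < p
        · exact (pair_near hwin (by omega) h1.1 h1.2).prod
        · rcases Nat.lt_or_ge i j with hlt | hge
          · show zs σ z sw i * zs σ z sw j * (zs σ z sw i * zs σ z sw j) = 1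
            rw [← hper i]
            exact (pair_near hwin (by omega) (by omega) (by omega)).prod
          · show zs σ z sw i * zs σ z sw j * (zs σ z sw i * zs σ z sw j) = 1
            rw [← hper j]
            exact (pair_near hwin (by omega) (by omega) (by omega)).prod)
    refine ⟨K, hfin, hcard, by simpa [zs_zero] using hmem 0, ?_, ?_, fun x hx => ?_⟩
    · refine (Subgroup.closure_le _).2 ?_ ha
      rintro _ ⟨i, hi, rfl⟩
      show a ^ i * z * (a ^ i)⁻¹ ∈ K
      rw [← hblk i hi]; exact hmem i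
    · have : ∀ k, Lp σ z sw 0 k ∈ K := by
        intro k
        induction k with
        | zero => exact one_mem K
        | succ k ih => exact mul_mem ih (mul_mem (mul_mem (inv_mem (hmem _)) (hmem _)) (inv_mem (hmem _)))
      exact this _
    · induction hx using Subgroup.closure_induction with
      | mem y hy =>
        obtain ⟨i, -, rfl⟩ := hy
        refine ⟨by rw [shift_zs]; exact hfl _ (hmem _), ?_⟩
        have h : zs σ z sw ((i : ℤ) - 1) = σ⁻¹ * fl sw (zs σ z sw i) * σ := by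
          have := shift_zs σ z sw ((i : ℤ) - 1)
          rw [sub_add_cancel] at this
          rw [← this]; group
        have h2 : σ⁻¹ * zs σ z sw i * σ = fl sw (zs σ z sw ((i : ℤ) - 1)) := by
          rw [h]; cases sw <;> simp [fl, mul_assoc]
        rw [h2]; exact hfl _ (hmem _)
      | one => simp [one_mem K]
      | mul y w _ _ hy hw =>
        refine ⟨?_, ?_⟩
        · simpa using mul_mem hy.1 hw.1
        · simpa [mul_assoc] using mul_mem hy.2 hw.2
      | inv y _ hy =>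
        exact ⟨by simpa [mul_assoc] using inv_mem hy.1, by simpa [mul_assoc] using inv_mem hy.2⟩
  constructor
  · intro hσ
    obtain ⟨K, hfin, hcard, hz, haK, hLK, -⟩ := main fun i => by rw [← hσ]; exact shift_sd hwin hp i
    have htop : K = ⊤ := by
      rw [eq_top_iff, ← hcl, Subgroup.closure_le]
      rintro x (rfl | rfl | rfl)
      exacts [hz, haK, hσ.symm ▸ hLK]
    rw [htop] at hfin hcard
    exact ⟨Finite.of_equiv _ Subgroup.topEquiv.toEquiv, by rwa [Subgroup.card_top] at hcard⟩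
  · intro hsw hσ
    have hz' := conj_eq_shift_of_odd hwin hp hpN hN hsw hσ
    have hψ : ∀ i : ℤ, Lp σ z sw 0 (N - 1) * sd σ z sw i * (Lp σ z sw 0 (N - 1))⁻¹ = sd σ z sw (i + 1) := by
      intro i
      have hpr : Pair (zs σ z sw (i + 1)) (zs σ z sw (i + 1 + 1)) := pair_near hwin (by omega) (by omega) (by omega)
      set L := Lp σ z sw 0 (N - 1)
      calc L * sd σ z sw i * L⁻¹ = dd (L * zs σ z sw i * L⁻¹) (L * zs σ z sw (i + 1) * L⁻¹) := by
            rw [sd, dd, dd]; group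
        _ = (dd (fl sw (zs σ z sw (i + 1))) (fl sw (zs σ z sw (i + 1 + 1))))⁻¹ := by
            rw [hz', hz', shift_zs, shift_zs, dd_inv_eq]
        _ = _ := by rw [fl_dd sw hpr, hpr.dd_inv, sd]
    obtain ⟨K, hfin, hcard, hz, haK, hLK, hnorm⟩ := main hψ
    have hσσ : σ * σ ∈ K := hσ ▸ mul_mem hLK hLK
    haveI := hfin
    let Ψ : Bool × K → G := fun q => if q.1 then σ * q.2 else q.2
    have hall : ∀ g : G, g ∈ Set.range Ψ := by
      have hA : ∀ k ∈ K, k ∈ Set.range Ψ := fun k hk => ⟨(false, ⟨k, hk⟩), rfl⟩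
      have hB : ∀ k ∈ K, σ * k ∈ Set.range Ψ := fun k hk => ⟨(true, ⟨k, hk⟩), rfl⟩
      have hK' : ∀ k ∈ K, ∀ y ∈ Set.range Ψ, k * y ∈ Set.range Ψ := by
        rintro k hk _ ⟨⟨b, w⟩, rfl⟩
        cases b
        · exact hA _ (mul_mem hk w.2)
        · show k * (σ * w) ∈ Set.range Ψ
          rw [show k * (σ * w) = σ * (σ⁻¹ * k * σ * w) by group]
          exact hB _ (mul_mem (hnorm k hk).2 w.2)
      have hS : ∀ y ∈ Set.range Ψ, σ * y ∈ Set.range Ψ := by
        rintro _ ⟨⟨b, w⟩, rfl⟩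
        cases b
        · exact hB _ w.2
        · show σ * (σ * w) ∈ Set.range Ψ
          rw [← mul_assoc]
          exact hA _ (mul_mem hσσ w.2)
      intro g
      have hg : g ∈ Subgroup.closure {z, a, σ} := hcl ▸ Subgroup.mem_top g
      induction hg using Subgroup.closure_induction_left with
      | one => exact hA 1 (one_mem K)
      | mul_left x hx y _ hy =>
        simp only [Set.mem_insert_iff, Set.mem_singleton_iff] at hx
        rcases hx with rfl | rfl | rfl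
        exacts [hK' _ hz y hy, hK' _ haK y hy, hS y hy]
      | inv_mul_cancel x hx y _ hy =>
        simp only [Set.mem_insert_iff, Set.mem_singleton_iff] at hx
        rcases hx with rfl | rfl | rfl
        · exact hK' _ (inv_mem hz) y hy
        · exact hK' _ (inv_mem haK) y hy
        · rw [show x⁻¹ * y = x * ((x * x)⁻¹ * y) by group]
          exact hS _ (hK' _ (inv_mem hσσ) y hy)
    refine ⟨Finite.of_surjective Ψ hall, ?_⟩
    have h := Nat.card_le_card_of_surjective Ψ hall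
    rw [Nat.card_prod, Nat.card_eq_fintype_card (α := Bool), Fintype.card_bool] at h
    omega

end Cfsg.Lib.AltPres
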