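import Cfsg.Agent.Known.AltPres.Pres
import Cfsg.Agent.Known.CoxeterSymm

/-!
# Changing the generators
-/

set_option autoImplicit false

namespace Cfsg.Lib.AltPres

open Equiv

theorem mk_eq_lift {ι : Type*} (rels : Set (FreeGroup ι)) (r : FreeGroup ι) :
    PresentedGroup.mk rels r = FreeGroup.lift (PresentedGroup.of (rels := rels)) r :=
  DFunLike.congr_fun (FreeGroup.ext_hom (PresentedGroup.mk rels) (FreeGroup.lift (PresentedGroup.of (rels := rels)))
    fun i => by rw [FreeGroup.lift_apply_of]; rfl) r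

theorem exists_word {ι : Type*} {T : Type*} [Group T] (h : ι → T) (hgen : Subgroup.closure (Set.range h) = ⊤)
    (t : T) : ∃ w, FreeGroup.lift h w = t := by
  have : t ∈ (FreeGroup.lift h).range := by rw [FreeGroup.range_lift_eq_closure, hgen]; trivial
  exact this

/-- Tietze transformation. -/
theorem subst {ι κ : Type} {T : Type*} [Group T] (R : Finset (FreeGroup ι))
    (e : PresentedGroup (↑R : Set (FreeGroup ι)) ≃* T) (h : κ → T) (w : ι → FreeGroup κ) (v : κ → FreeGroup ι)
    (hw : ∀ i, FreeGroup.lift h (w i) = e (PresentedGroup.of i)) (hv : ∀ j, e (PresentedGroup.mk _ (v j)) = h j)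
    (R' : Finset (FreeGroup κ)) (h1 : ∀ r ∈ R, FreeGroup.lift w r ∈ R')
    (h2 : ∀ j, FreeGroup.of j * (FreeGroup.lift w (v j))⁻¹ = 1 ∨ FreeGroup.of j * (FreeGroup.lift w (v j))⁻¹ ∈ R')
    (h3 : ∀ r ∈ R', FreeGroup.lift h r = 1) :
    ∃ e' : PresentedGroup (↑R' : Set (FreeGroup κ)) ≃* T, ∀ j, e' (PresentedGroup.of j) = h j := by
  let φ : PresentedGroup (↑R' : Set (FreeGroup κ)) →* T := PresentedGroup.toGroup (f := h) h3
  have hψ : ∀ r ∈ (↑R : Set (FreeGroup ι)),
      FreeGroup.lift (fun i => PresentedGroup.mk (↑R' : Set (FreeGroup κ)) (w i)) r = 1 := fun r hr => by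
    rw [show (fun i => PresentedGroup.mk (↑R' : Set (FreeGroup κ)) (w i)) = PresentedGroup.mk _ ∘ w from rfl, ← map_lift]
    exact PresentedGroup.one_of_mem (h1 r hr)
  let ψ : PresentedGroup (↑R : Set (FreeGroup ι)) →* PresentedGroup (↑R' : Set (FreeGroup κ)) :=
    PresentedGroup.toGroup hψ
  have hψv : ∀ u, ψ (PresentedGroup.mk _ u) = PresentedGroup.mk _ (FreeGroup.lift w u) := fun u => by
    rw [mk_eq_lift, map_lift, map_lift]
    congr 2
    funext i
    exact PresentedGroup.toGroup.of _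
  have hφ : ∀ j, φ (PresentedGroup.of j) = h j := fun j => PresentedGroup.toGroup.of _
  refine ⟨MonoidHom.toMulEquiv φ (ψ.comp e.symm.toMonoidHom) ?_ ?_, hφ⟩
  · refine PresentedGroup.ext fun j => ?_
    show ψ (e.symm (φ (PresentedGroup.of j))) = PresentedGroup.of j
    rw [hφ, ← hv j, MulEquiv.symm_apply_apply, hψv]
    refine (mul_inv_eq_one.1 ?_).symm
    show PresentedGroup.mk _ (FreeGroup.of j) * _ = 1
    rw [← map_inv, ← map_mul]
    rcases h2 j with h | h
    · rw [h, map_one]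
    · exact PresentedGroup.one_of_mem h
  · refine MonoidHom.ext fun t => ?_
    show φ (ψ (e.symm t)) = t
    have : φ.comp ψ = e.toMonoidHom := PresentedGroup.ext fun i => by
      show φ (ψ (PresentedGroup.of i)) = e (PresentedGroup.of i)
      rw [PresentedGroup.toGroup.of, mk_eq_lift, map_lift, show (φ ∘ PresentedGroup.of) = h from funext hφ, hw]
    exact (DFunLike.congr_fun this _).trans (e.apply_symm_apply t)

/-- A presentation of `T` on two generators by at most `k` relations. -/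
def Pres2 (T : Type*) [Group T] (k : ℕ) : Prop :=
  ∃ R : Finset (FreeGroup (Fin 2)), R.card ≤ k ∧ Nonempty (PresentedGroup (↑R : Set (FreeGroup (Fin 2))) ≃* T)

theorem Pres3.congr {T U : Type*} [Group T] [Group U] (h : Pres3 T) (f : T ≃* U) : Pres3 U := by
  obtain ⟨R, e, hR, hgen⟩ := h
  refine ⟨R, e.trans f, hR, ?_⟩
  have := congrArg (Subgroup.map f.toMonoidHom) hgen
  rw [MonoidHom.map_closure, Set.image_pair, Subgroup.map_top_of_surjective _ f.surjective] at this
  simpa using this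

theorem Pres3.pres2 {T : Type*} [Group T] (h : Pres3 T) : Pres2 T 7 := by
  classical
  obtain ⟨R, e, hR, hgen⟩ := h
  let t : Fin 2 → T := ![e (PresentedGroup.of 0), e (PresentedGroup.of 2)]
  obtain ⟨wa, hwa⟩ := exists_word t (by rw [← hgen]; congr 1; simp [t, Matrix.range_cons, Set.pair_comm]) (e (PresentedGroup.of 1))
  let w : Fin 3 → FreeGroup (Fin 2) := ![FreeGroup.of 0, wa, FreeGroup.of 1]
  have hw : ∀ i, FreeGroup.lift t (w i) = e (PresentedGroup.of i) := by
    intro i; fin_cases i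
    · simp [w, t]
    · simpa [w] using hwa
    · simp [w, t]
  obtain ⟨e', -⟩ := subst R e t w ![FreeGroup.of 0, FreeGroup.of 2] hw
    (fun j => by fin_cases j <;> simp [t] <;> rfl) (R.image (FreeGroup.lift w)) (fun r hr => Finset.mem_image_of_mem _ hr)
    (fun j => Or.inl (by fin_cases j <;> simp [w]))
    (fun r hr => by
      obtain ⟨r, hr', rfl⟩ := Finset.mem_image.1 hr
      rw [map_lift, show (⇑(FreeGroup.lift t) ∘ w) = ⇑e ∘ PresentedGroup.of from funext hw,
        show (⇑e : _ → T) = ⇑e.toMonoidHom from rfl, ← map_lift, ← mk_eq_lift]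
      rw [PresentedGroup.one_of_mem (rels := (↑R : Set (FreeGroup (Fin 3)))) hr', map_one])
  exact ⟨_, Finset.card_image_le.trans hR, ⟨e'⟩⟩

theorem Pres2.congr {T U : Type*} [Group T] [Group U] {k : ℕ} (h : Pres2 T k) (f : T ≃* U) : Pres2 U k := by
  obtain ⟨R, hR, ⟨e⟩⟩ := h
  exact ⟨R, hR, ⟨e.trans f⟩⟩

/-- Any two generators, two more relations. -/
theorem Pres2.any_pair {T : Type*} [Group T] {k : ℕ} (h : Pres2 T k) (a b : T)
    (hgen : Subgroup.closure ({a, b} : Set T) = ⊤) :
    ∃ R : Finset (FreeGroup (Fin 2)), R.card ≤ k + 2 ∧ ∃ e : PresentedGroup (↑R : Set (FreeGroup (Fin 2))) ≃* T,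
      e (PresentedGroup.of 0) = a ∧ e (PresentedGroup.of 1) = b := by
  classical
  obtain ⟨R, hR, ⟨e⟩⟩ := h
  let t : Fin 2 → T := ![a, b]
  have hw := fun i : Fin 2 => exists_word t (by rw [← hgen]; congr 1; simp [t, Matrix.range_cons, Set.pair_comm])
    (e (PresentedGroup.of i))
  choose w hw using hw
  have hv := fun j : Fin 2 => PresentedGroup.mk_surjective (↑R : Set (FreeGroup (Fin 2))) (e.symm (t j))
  choose v hv using hv
  have hv' : ∀ j, e (PresentedGroup.mk _ (v j)) = t j := fun j => by rw [hv, MulEquiv.apply_symm_apply]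
  have hwv : ∀ u, FreeGroup.lift t (FreeGroup.lift w u) = e (PresentedGroup.mk _ u) := fun u => by
    rw [map_lift, show (⇑(FreeGroup.lift t) ∘ w) = ⇑e ∘ PresentedGroup.of from funext hw, mk_eq_lift,
      show (⇑e : _ → T) = ⇑e.toMonoidHom from rfl, map_lift]
  obtain ⟨e', he'⟩ := subst R e t w v hw hv'
    (R.image (FreeGroup.lift w) ∪ Finset.univ.image fun j => FreeGroup.of j * (FreeGroup.lift w (v j))⁻¹)
    (fun r hr => Finset.mem_union_left _ (Finset.mem_image_of_mem _ hr))
    (fun j => Or.inr (Finset.mem_union_right _ (Finset.mem_image_of_mem _ (Finset.mem_univ j))))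
    (fun r hr => by
      rcases Finset.mem_union.1 hr with h | h
      · obtain ⟨r, hr', rfl⟩ := Finset.mem_image.1 h
        rw [hwv, PresentedGroup.one_of_mem (rels := (↑R : Set (FreeGroup (Fin 2)))) hr', map_one]
      · obtain ⟨j, -, rfl⟩ := Finset.mem_image.1 h
        rw [map_mul, map_inv, FreeGroup.lift_apply_of, hwv, hv', mul_inv_cancel])
  refine ⟨_, (Finset.card_union_le _ _).trans (add_le_add (Finset.card_image_le.trans hR)
    (Finset.card_image_le.trans (by simp))), e', by simpa [t] using he' 0, by simpa [t] using he' 1⟩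

theorem pres3_alt_fin (n : ℕ) (hn : 5 ≤ n) : Pres3 (alternatingGroup (Fin n)) := by
  obtain ⟨N, rfl⟩ : ∃ N, n = N + 2 := ⟨n - 2, by omega⟩
  exact (pres3_alt N (by omega)).congr
    (Equiv.altCongrHom (Fintype.equivFinOfCardEq (by simp : Fintype.card (Fin N ⊕ Bool) = N + 2)))

theorem pres3_sym_fin (n : ℕ) (hn : 5 ≤ n) : Pres3 (Perm (Fin n)) := by
  obtain ⟨N, rfl⟩ : ∃ N, n = N + 2 := ⟨n - 2, by omega⟩
  exact (pres3_sym N (by omega)).congr
    (Fintype.equivFinOfCardEq (by simp : Fintype.card (Fin N ⊕ Bool) = N + 2)).permCongrHom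

theorem pres2_of_bound {T : Type*} [Group T] [Finite T] (L : List (FreeGroup (Fin 2))) {k : ℕ} (hk : L.length ≤ k)
    (m : Fin 2 → T) (hm : ∀ r ∈ L, FreeGroup.lift m r = 1)
    (hgen : ∀ t : T, t ∈ Subgroup.closure (Set.range m))
    (hb : ∀ (G : Type) [Group G] (f : Fin 2 → G), (∀ r ∈ L, FreeGroup.lift f r = 1) →
      Subgroup.closure {f 0, f 1} = ⊤ → Finite G ∧ Nat.card G ≤ Nat.card T) : Pres2 T k := by
  classical
  let R : Finset (FreeGroup (Fin 2)) := L.toFinset
  have hcard := hb (PresentedGroup (↑R : Set (FreeGroup (Fin 2)))) PresentedGroup.of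
    (fun r hr => by rw [← mk_eq_lift]; exact PresentedGroup.one_of_mem (by simpa [R] using hr))
    (by
      rw [eq_top_iff, ← PresentedGroup.closure_range_of (↑R : Set (FreeGroup (Fin 2)))]
      refine Subgroup.closure_mono ?_
      rintro _ ⟨i, rfl⟩
      fin_cases i <;> simp)
  haveI := hcard.1
  let π : PresentedGroup (↑R : Set (FreeGroup (Fin 2))) →* T :=
    PresentedGroup.toGroup (f := m) (fun r hr => hm r (by simpa [R] using hr))
  have hsurj : Function.Surjective π := by
    rw [← MonoidHom.range_eq_top, eq_top_iff]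
    intro t _
    refine (Subgroup.closure_le _).2 ?_ (hgen t)
    rintro _ ⟨i, rfl⟩
    exact ⟨_, PresentedGroup.toGroup.of _⟩
  have hbij : Function.Bijective π :=
    (Nat.bijective_iff_surjective_and_card π).2 ⟨hsurj, le_antisymm hcard.2 (Nat.card_le_card_of_surjective π hsurj)⟩
  exact ⟨R, (List.toFinset_card_le _).trans hk, ⟨MulEquiv.ofBijective π hbij⟩⟩

theorem card_le_of_top {G : Type*} [Group G] {T : Type*} (K : Subgroup G) (hK : K = ⊤) (hf : (K : Set G).Finite)
    (hc : (K : Set G).ncard ≤ Nat.card T) : Finite G ∧ Nat.card G ≤ Nat.card T := by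
  subst hK
  rw [Subgroup.coe_top] at hf hc
  exact ⟨Set.finite_univ_iff.1 hf, by rwa [← Set.ncard_univ]⟩

theorem small_trivial {T : Type*} [Group T] [Subsingleton T] (k : ℕ) (hk : 2 ≤ k) : Pres2 T k := by
  refine pres2_of_bound [FreeGroup.of 0, FreeGroup.of 1] hk (fun _ => 1) (fun r _ => Subsingleton.elim _ _)
    (fun t => by rw [Subsingleton.elim t 1]; exact one_mem _) fun G _ f hf hcl => ?_
  have : (⊤ : Subgroup G) = ⊥ := by
    rw [← hcl, Subgroup.closure_eq_bot_iff]
    have h0 := hf _ (List.mem_cons_self ..)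
    have h1 := hf (FreeGroup.of 1) (by simp)
    rw [FreeGroup.lift_apply_of] at h0 h1
    rintro x (rfl | rfl) <;> simp [h0, h1]
  haveI : Subsingleton G := ⟨fun a b => by
    have h : ∀ g : G, g = 1 := fun g => Subgroup.mem_bot.1 (this ▸ Subgroup.mem_top g)
    rw [h a, h b]⟩
  exact ⟨inferInstance, by rw [Nat.card_of_subsingleton (1 : G)]; exact Nat.card_pos⟩

theorem braid_of {G : Type*} [Group G] {a b : G} (ha : a * a = 1) (hb : b * b = 1) (h : (a * b) ^ 3 = 1) :
    a * b * a = b * a * b := by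
  rw [← mul_inv_eq_one, mul_inv_rev, mul_inv_rev, inv_eq_of_mul_eq_one_left ha, inv_eq_of_mul_eq_one_left hb]
  simpa only [pow_succ, pow_zero, one_mul, mul_assoc] using h

theorem small_sym (n : ℕ) (hn : n ≤ 4) : Pres2 (Perm (Fin n)) 8 := by
  rcases (show n = 0 ∨ n = 1 ∨ n = 2 ∨ n = 3 ∨ n = 4 by omega) with rfl | rfl | rfl | rfl | rfl
  · exact small_trivial 8 (by norm_num)
  · exact small_trivial 8 (by norm_num)
  · refine pres2_of_bound [FreeGroup.of 0 * FreeGroup.of 0, FreeGroup.of 1] (by simp)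
      ![swap 0 1, 1] (by simp [swap_mul_self]) ?_ fun G _ f hf hcl => ?_
    · intro t
      rcases (show ∀ t : Perm (Fin 2), t = 1 ∨ t = swap 0 1 by decide) t with rfl | rfl
      · exact one_mem _
      · exact Subgroup.subset_closure ⟨0, rfl⟩
    have h0 := hf (FreeGroup.of 0 * FreeGroup.of 0) (by simp)
    have h1 := hf (FreeGroup.of 1) (by simp)
    simp only [map_mul, FreeGroup.lift_apply_of] at h0 h1
    have := Cfsg.Lib.CoxeterSymm.bound (s := fun _ => f 0) 1 (fun i _ => h0) (fun i hi j hj h => absurd h (by omega))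
      (fun i hi => absurd hi (by omega))
    refine card_le_of_top _ ?_ this.1 (this.2.trans (by rw [Nat.card_perm, Nat.card_fin]))
    rw [eq_top_iff, ← hcl, Subgroup.closure_le]
    rintro x (rfl | rfl)
    · exact Subgroup.subset_closure ⟨0, by simp, rfl⟩
    · rw [h1]; exact one_mem _
  all_goals skip
  · let s : ℕ → FreeGroup (Fin 2) := fun i => FreeGroup.of 1 ^ i * FreeGroup.of 0 * (FreeGroup.of 1 ^ i)⁻¹
    refine pres2_of_bound [s 0 * s 0, (s 0 * s 1) ^ 3, FreeGroup.of 1 * (s 0 * s 1)⁻¹] (by simp)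
      ![swap 0 1, finRotate 3] (by simp [s]; decide) ?_ fun G _ f hf hcl => ?_
    · intro t
      have h := Perm.closure_cycle_adjacent_swap (σ := finRotate 3) (isCycle_finRotate) support_finRotate (0 : Fin 3)
      rw [show finRotate 3 0 = 1 by decide] at h
      rw [show Set.range ![swap (0 : Fin 3) 1, finRotate 3] = {finRotate 3, swap 0 1} by
        simp [Matrix.range_cons, Set.pair_comm], h]
      trivial
    have h0 := hf (s 0 * s 0) (by simp)
    have hb := hf ((s 0 * s 1) ^ 3) (by simp)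
    have hc := hf (FreeGroup.of 1 * (s 0 * s 1)⁻¹) (by simp)
    set x : ℕ → G := fun i => f 1 ^ i * f 0 * (f 1 ^ i)⁻¹ with hx
    have hs : ∀ i, FreeGroup.lift f (s i) = x i := fun i => by simp [s, x]
    simp only [map_mul, map_pow, map_inv, hs, FreeGroup.lift_apply_of, mul_inv_eq_one] at h0 hb hc
    have h1 : x 1 * x 1 = 1 := by
      rw [show x 1 * x 1 = f 1 * (x 0 * x 0) * (f 1)⁻¹ by simp only [hx]; group, h0]; group
    have hbr : x 0 * x 1 * x 0 = x 1 * x 0 * x 1 := braid_of h0 h1 hb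
    have := Cfsg.Lib.CoxeterSymm.bound (s := x) 2
      (fun i hi => by rcases (show i = 0 ∨ i = 1 by omega) with rfl | rfl; exacts [h0, h1])
      (fun i hi j hj h => absurd h (by omega)) (fun i hi => by obtain rfl : i = 0 := (by omega); exact hbr)
    refine card_le_of_top _ ?_ this.1 (this.2.trans (by rw [Nat.card_perm, Nat.card_fin]))
    have hmem : ∀ i < 2, x i ∈ Subgroup.closure (x '' Set.Iio 2) := fun i hi => Subgroup.subset_closure ⟨i, hi, rfl⟩
    rw [eq_top_iff, ← hcl, Subgroup.closure_le]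
    rintro y (rfl | rfl)
    · simpa [hx] using hmem 0 (by omega)
    · rw [hc]; exact mul_mem (hmem 0 (by omega)) (hmem 1 (by omega))
  · let s : ℕ → FreeGroup (Fin 2) := fun i => FreeGroup.of 1 ^ i * FreeGroup.of 0 * (FreeGroup.of 1 ^ i)⁻¹
    refine pres2_of_bound [s 0 * s 0, (s 0 * s 1) ^ 3, s 0 * s 2 * (s 0 * s 2), FreeGroup.of 1 * (s 0 * s 1 * s 2)⁻¹]
      (by simp) ![swap 0 1, finRotate 4] (by simp [s]; decide) ?_ fun G _ f hf hcl => ?_
    · intro t
      have h := Perm.closure_cycle_adjacent_swap (σ := finRotate 4) (isCycle_finRotate) support_finRotate (0 : Fin 4)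
      rw [show finRotate 4 0 = 1 by decide] at h
      rw [show Set.range ![swap (0 : Fin 4) 1, finRotate 4] = {finRotate 4, swap 0 1} by
        simp [Matrix.range_cons, Set.pair_comm], h]
      trivial
    have h0 := hf (s 0 * s 0) (by simp)
    have hb := hf ((s 0 * s 1) ^ 3) (by simp)
    have hd := hf (s 0 * s 2 * (s 0 * s 2)) (by simp)
    have hc := hf (FreeGroup.of 1 * (s 0 * s 1 * s 2)⁻¹) (by simp)
    set x : ℕ → G := fun i => f 1 ^ i * f 0 * (f 1 ^ i)⁻¹ with hx
    have hs : ∀ i, FreeGroup.lift f (s i) = x i := fun i => by simp [s, x]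
    simp only [map_mul, map_pow, map_inv, hs, FreeGroup.lift_apply_of, mul_inv_eq_one] at h0 hb hd hc
    have hsq : ∀ i, x i * x i = 1 := fun i => by
      rw [show x i * x i = f 1 ^ i * (x 0 * x 0) * (f 1 ^ i)⁻¹ by simp only [hx]; group, h0]; group
    have hbr : x 0 * x 1 * x 0 = x 1 * x 0 * x 1 := braid_of h0 (hsq 1) hb
    have hcom : Commute (x 0) (x 2) := by
      show _ = _
      rw [eq_comm, ← inv_eq_of_mul_eq_one_left hd, mul_inv_rev, inv_eq_of_mul_eq_one_left (hsq 2),
        inv_eq_of_mul_eq_one_left h0]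
    have hbr2 : x 1 * x 2 * x 1 = x 2 * x 1 * x 2 := by
      have := congrArg (fun u => f 1 * u * (f 1)⁻¹) hbr
      simp only [hx] at this ⊢
      convert this using 1 <;> group
    have := Cfsg.Lib.CoxeterSymm.bound (s := x) 3 (fun i _ => hsq i)
      (fun i hi j hj h => by obtain ⟨rfl, rfl⟩ : i = 0 ∧ j = 2 := (by omega); exact hcom)
      (fun i hi => by rcases (show i = 0 ∨ i = 1 by omega) with rfl | rfl; exacts [hbr, hbr2])
    refine card_le_of_top _ ?_ this.1 (this.2.trans (by rw [Nat.card_perm, Nat.card_fin]))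
    have hmem : ∀ i < 3, x i ∈ Subgroup.closure (x '' Set.Iio 3) := fun i hi => Subgroup.subset_closure ⟨i, hi, rfl⟩
    rw [eq_top_iff, ← hcl, Subgroup.closure_le]
    rintro y (rfl | rfl)
    · simpa [hx] using hmem 0 (by omega)
    · rw [hc]; exact mul_mem (mul_mem (hmem 0 (by omega)) (hmem 1 (by omega))) (hmem 2 (by omega))

theorem small_alt_four : Pres2 (alternatingGroup (Fin 4)) 3 := by
  let x0 : alternatingGroup (Fin 4) := ⟨swap 0 1 * swap 1 2, Perm.mem_alternatingGroup.2 (by decide)⟩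
  let x1 : alternatingGroup (Fin 4) := ⟨swap 0 1 * swap 1 3, Perm.mem_alternatingGroup.2 (by decide)⟩
  refine pres2_of_bound [FreeGroup.of 0 * FreeGroup.of 0 * FreeGroup.of 0, FreeGroup.of 1 * FreeGroup.of 1 * FreeGroup.of 1,
    FreeGroup.of 0 * FreeGroup.of 1 * (FreeGroup.of 0 * FreeGroup.of 1)] (by simp) ![x0, x1]
    (by simp [x0, x1]; decide) ?_ fun G _ f hf hcl => ?_
  · intro t
    obtain ⟨i, j, k, l, rfl⟩ :=
      (show ∀ t : alternatingGroup (Fin 4), ∃ i j k l : Fin 3, x0 ^ i.val * x1 ^ j.val * x0 ^ k.val * x1 ^ l.val = t by decide) t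
    have h0 : x0 ∈ Subgroup.closure (Set.range ![x0, x1]) := Subgroup.subset_closure ⟨0, rfl⟩
    have h1 : x1 ∈ Subgroup.closure (Set.range ![x0, x1]) := Subgroup.subset_closure ⟨1, rfl⟩
    exact mul_mem (mul_mem (mul_mem (pow_mem h0 _) (pow_mem h1 _)) (pow_mem h0 _)) (pow_mem h1 _)
  have h0 := hf (FreeGroup.of 0 * FreeGroup.of 0 * FreeGroup.of 0) (by simp)
  have h1 := hf (FreeGroup.of 1 * FreeGroup.of 1 * FreeGroup.of 1) (by simp)
  have h01 := hf (FreeGroup.of 0 * FreeGroup.of 1 * (FreeGroup.of 0 * FreeGroup.of 1)) (by simp)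
  simp only [map_mul, FreeGroup.lift_apply_of] at h0 h1 h01
  obtain ⟨hfin, hc⟩ := carmichael (fun i => if i = 0 then f 0 else f 1) 2
    (fun i _ => by split_ifs; exacts [h0, h1]) (fun i j hi hj h => by
      rcases (show (i = 0 ∧ j = 1) ∨ (i = 1 ∧ j = 0) by omega) with ⟨rfl, rfl⟩ | ⟨rfl, rfl⟩
      · simpa using h01
      · simpa using (Pair.symm ⟨h0, h1, h01⟩ : Pair (f 1) (f 0)).prod)
  have htop : Subgroup.closure ((fun i : ℕ => if i = 0 then f 0 else f 1) '' Set.Iio 2) = ⊤ := by
    rw [eq_top_iff, ← hcl, Subgroup.closure_le]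
    rintro x (rfl | rfl)
    · exact Subgroup.subset_closure ⟨0, by simp, rfl⟩
    · exact Subgroup.subset_closure ⟨1, by simp, rfl⟩
  rw [htop] at hfin hc
  rw [Subgroup.card_top] at hc
  refine ⟨Finite.of_equiv _ Subgroup.topEquiv.toEquiv, ?_⟩
  rw [Nat.card_eq_fintype_card (α := alternatingGroup (Fin 4)),
    show Fintype.card (alternatingGroup (Fin 4)) = 12 by decide]
  simp only [Nat.factorial] at hc
  omega

theorem small_alt (n : ℕ) (hn : n ≤ 4) : Pres2 (alternatingGroup (Fin n)) 8 := by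
  rcases (show n ≤ 2 ∨ n = 3 ∨ n = 4 by omega) with h | rfl | rfl
  · have key : ∀ g : Perm (Fin n), Perm.sign g = 1 → g = 1 := by
      rcases (show n = 0 ∨ n = 1 ∨ n = 2 by omega) with rfl | rfl | rfl <;> decide
    haveI : Subsingleton (alternatingGroup (Fin n)) :=
      ⟨fun a b => Subtype.ext (by rw [key _ (Perm.mem_alternatingGroup.1 a.2), key _ (Perm.mem_alternatingGroup.1 b.2)])⟩
    exact small_trivial 8 (by norm_num)
  · let z : alternatingGroup (Fin 3) := ⟨finRotate 3, Perm.mem_alternatingGroup.2 (by decide)⟩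
    refine pres2_of_bound [FreeGroup.of 0 * FreeGroup.of 0 * FreeGroup.of 0, FreeGroup.of 1] (by simp) ![z, 1]
      (by simp [z]; decide) ?_ fun G _ f hf hcl => ?_
    · intro t
      rcases (show ∀ t : alternatingGroup (Fin 3), t = 1 ∨ t = z ∨ t = z * z by decide) t with rfl | rfl | rfl
      · exact one_mem _
      · exact Subgroup.subset_closure ⟨0, rfl⟩
      · exact mul_mem (Subgroup.subset_closure ⟨0, rfl⟩) (Subgroup.subset_closure ⟨0, rfl⟩)
    have h0 := hf (FreeGroup.of 0 * FreeGroup.of 0 * FreeGroup.of 0) (by simp)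
    have h1 := hf (FreeGroup.of 1) (by simp)
    simp only [map_mul, FreeGroup.lift_apply_of] at h0 h1
    obtain ⟨hfin, hc⟩ := carmichael (fun _ => f 0) 1 (fun i _ => h0) (fun i j hi hj h => absurd h (by omega))
    have htop : Subgroup.closure ((fun _ : ℕ => f 0) '' Set.Iio 1) = ⊤ := by
      rw [eq_top_iff, ← hcl, Subgroup.closure_le]
      rintro x (rfl | rfl)
      · exact Subgroup.subset_closure ⟨0, by simp, rfl⟩
      · rw [h1]; exact one_mem _
    rw [htop] at hfin hc
    rw [Subgroup.card_top] at hc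
    refine ⟨Finite.of_equiv _ Subgroup.topEquiv.toEquiv, ?_⟩
    rw [Nat.card_eq_fintype_card (α := alternatingGroup (Fin 3)),
      show Fintype.card (alternatingGroup (Fin 3)) = 3 by decide]
    simp only [Nat.factorial] at hc
    omega
  · obtain ⟨R, hR, e⟩ := small_alt_four
    exact ⟨R, hR.trans (by norm_num), e⟩

end Cfsg.Lib.AltPres
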